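import Mathlib
import Cfsg.Prelude.Def_Blocks
import Cfsg.Agent.Blocks.Basic
import Cfsg.Agent.Blocks.ClassScalar
import Cfsg.Agent.Blocks.CentralScalar
import Cfsg.Agent.Blocks.PRegular
import Cfsg.Agent.Blocks.LocalRing

/-!
# Membership in the principal block by nilpotency on a permutation module

`G` acts on the finite set `X`; `cn g x y` is the number of conjugates of `g` mapping `y` to `x`.
If for every `p`-regular `g` the matrix `cn g - |g^G|` is nilpotent modulo `p`, then every
irreducible constituent of the permutation character lies in the principal `p`-block.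
-/

set_option autoImplicit false

namespace Cfsg.Agent.H694.EB

open Cfsg Matrix
open scoped ComplexConjugate

universe u v

section

variable {G : Type u} [Group G] [Fintype G] {X : Type v} [MulAction G X]

/-- the number of conjugates of `g` mapping `y` to `x` -/
noncomputable def cn (g : G) (x y : X) : ℕ := Nat.card {h : G // IsConj g h ∧ h • y = x}

variable [Fintype X] [DecidableEq X]

/-- the permutation matrix -/
def pm (R : Type*) [CommRing R] (h : G) : Matrix X X R := Matrix.of fun x y => if h • y = x then 1 else 0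

omit [Fintype G] in
theorem pm_mul {R : Type*} [CommRing R] (g h : G) : (pm R g : Matrix X X R) * pm R h = pm R (g * h) := by
  ext x y
  rw [Matrix.mul_apply]
  simp only [pm, Matrix.of_apply]
  rw [Finset.sum_eq_single (h • y)]
  · rw [if_pos rfl, mul_one, mul_smul]
  · intro z _ hz
    rw [if_neg (fun h' => hz (Eq.symm h') : ¬ h • y = z), mul_zero]
  · intro h'
    exact absurd (Finset.mem_univ _) h'

/-- the action of the element `∑ χ(h⁻¹) h` -/
noncomputable def em (χ : G → ℂ) : Matrix X X ℂ := ∑ h : G, χ h⁻¹ • pm ℂ h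

open Classical in
/-- the class sum -/
noncomputable def csum (R : Type*) [CommRing R] (g : G) : Matrix X X R :=
  ∑ h : G, (if IsConj g h then (1 : R) else 0) • pm R h

omit [Fintype X] in
open Classical in
theorem csum_apply {R : Type*} [CommRing R] (g : G) (x y : X) :
    (csum R g : Matrix X X R) x y = (cn g x y : R) := by
  unfold csum cn
  rw [Matrix.sum_apply]
  have h1 : ∀ h : G, ((if IsConj g h then (1 : R) else 0) • (pm R h : Matrix X X R)) x y =
      if IsConj g h ∧ h • y = x then 1 else 0 := by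
    intro h
    rw [Matrix.smul_apply, pm, Matrix.of_apply, smul_eq_mul]
    by_cases h2 : IsConj g h
    · rw [if_pos h2, one_mul]
      by_cases h3 : h • y = x
      · rw [if_pos h3, if_pos ⟨h2, h3⟩]
      · rw [if_neg h3, if_neg fun h4 => h3 h4.2]
    · rw [if_neg h2, zero_mul, if_neg fun h4 => h2 h4.1]
  rw [Finset.sum_congr rfl fun h _ => h1 h, Finset.sum_boole, Nat.card_eq_fintype_card,
    Fintype.card_subtype]

omit [Fintype X] in
theorem csum_eq {R : Type*} [CommRing R] (g : G) :
    (csum R g : Matrix X X R) = Matrix.of fun x y => (cn g x y : R) := by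
  ext x y
  rw [csum_apply]
  rfl

open Classical in
theorem csum_mul_em {n : ℕ} (ρ : Representation ℂ G (Fin n → ℂ)) (hρ : ρ.IsIrreducible) (g : G) :
    (csum ℂ g : Matrix X X ℂ) * em ρ.character = centralChar ρ.character g • em ρ.character := by
  have hkey : ∀ k : G, ∑ c : G, (if IsConj g c then (1 : ℂ) else 0) * ρ.character ((c⁻¹ * k)⁻¹) =
      centralChar ρ.character g * ρ.character k⁻¹ := by
    intro k
    have h1 := Blocks.ClassScalar.sum_class_eq ρ hρ g
    have h2 := congrArg (fun T => LinearMap.trace ℂ _ (ρ k⁻¹ * T)) h1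
    simp only [Finset.mul_sum, mul_smul_comm, map_sum, map_smul, smul_eq_mul] at h2
    rw [mul_one] at h2
    have h3 : LinearMap.trace ℂ _ (ρ k⁻¹) = ρ.character k⁻¹ := rfl
    rw [h3] at h2
    rw [← h2]
    refine Finset.sum_congr rfl fun c _ => ?_
    rw [← map_mul, _root_.mul_inv_rev, inv_inv]
    rfl
  unfold csum em
  rw [Finset.sum_mul_sum, Finset.smul_sum]
  have h1 : ∀ c h : G, ((if IsConj g c then (1 : ℂ) else 0) • (pm ℂ c : Matrix X X ℂ)) *
      (ρ.character h⁻¹ • pm ℂ h) =
      ((if IsConj g c then (1 : ℂ) else 0) * ρ.character h⁻¹) • pm ℂ (c * h) := by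
    intro c h
    rw [smul_mul_smul_comm, pm_mul]
  simp only [h1]
  have h2 : ∀ c : G, ∑ h : G, ((if IsConj g c then (1 : ℂ) else 0) * ρ.character h⁻¹) •
      (pm ℂ (c * h) : Matrix X X ℂ) =
      ∑ k : G, ((if IsConj g c then (1 : ℂ) else 0) * ρ.character ((c⁻¹ * k)⁻¹)) • pm ℂ k := by
    intro c
    refine Fintype.sum_equiv (Equiv.mulLeft c) _ _ fun h => ?_
    simp
  rw [Finset.sum_congr rfl fun c _ => h2 c, Finset.sum_comm]
  refine Finset.sum_congr rfl fun k _ => ?_
  rw [← Finset.sum_smul, hkey, smul_smul]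

theorem trace_em (χ : G → ℂ) :
    (em χ : Matrix X X ℂ).trace = ∑ h : G, (Nat.card {x : X // h • x = x} : ℂ) * χ h⁻¹ := by
  classical
  unfold em
  rw [Matrix.trace_sum]
  refine Finset.sum_congr rfl fun h _ => ?_
  rw [Matrix.trace_smul, smul_eq_mul, mul_comm]
  congr 1
  unfold Matrix.trace
  simp only [Matrix.diag_apply, pm, Matrix.of_apply]
  rw [Finset.sum_boole, Nat.card_eq_fintype_card, Fintype.card_subtype]

theorem aeval_mul (Y : Matrix X X ℤ) (E : Matrix X X ℂ) (μ : ℂ)
    (h : Y.map (Int.castRingHom ℂ) * E = μ • E) (q : Polynomial ℤ) :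
    (Polynomial.aeval Y q).map (Int.castRingHom ℂ) * E = (Polynomial.aeval μ q) • E := by
  let f : Matrix X X ℤ →+* Matrix X X ℂ := (Int.castRingHom ℂ).mapMatrix
  have hf : ∀ Z : Matrix X X ℤ, f Z = Z.map (Int.castRingHom ℂ) := fun _ => rfl
  rw [← hf] at h ⊢
  induction q using Polynomial.induction_on' with
  | add p q hp hq => rw [map_add, map_add, map_add, add_mul, hp, hq, add_smul]
  | monomial n a =>
    have h1 : ∀ n : ℕ, f (Y ^ n) * E = μ ^ n • E := by
      intro n
      induction n with
      | zero => rw [pow_zero, map_one, one_mul, pow_zero, one_smul]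
      | succ n ih => rw [pow_succ, map_mul, mul_assoc, h, mul_smul_comm, ih, smul_smul, pow_succ,
          mul_comm μ]
    rw [Polynomial.aeval_monomial, Polynomial.aeval_monomial, map_mul, mul_assoc, h1]
    have h2 : f ((algebraMap ℤ (Matrix X X ℤ)) a) = (a : ℂ) • (1 : Matrix X X ℂ) := by
      rw [hf]
      ext i j
      rw [Matrix.map_apply, Matrix.algebraMap_matrix_apply, Matrix.smul_apply, Matrix.one_apply]
      split_ifs <;> simp
    rw [h2, smul_mul_assoc, one_mul, smul_smul]
    rfl

/-- The scalar of an eigenvector of an integral matrix is an algebraic integer. -/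
theorem isIntegral_of_mul (Y : Matrix X X ℤ) (E : Matrix X X ℂ) (hE : E ≠ 0) (μ : ℂ)
    (h : Y.map (Int.castRingHom ℂ) * E = μ • E) : IsIntegral ℤ μ := by
  obtain ⟨q, hq, hq0⟩ := IsIntegral.of_finite ℤ Y
  refine ⟨q, hq, ?_⟩
  have h1 := aeval_mul Y E μ h q
  rw [Polynomial.aeval_def, hq0] at h1
  have h2 : (Polynomial.aeval μ q) • E = 0 := by
    rw [← h1]
    ext i j
    simp [Matrix.mul_apply]
  rcases smul_eq_zero.1 h2 with h3 | h3
  · exact h3
  · exact absurd h3 hE

variable {p : ℕ} {M : Ideal AlgInt}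

/-- **Membership in the principal block.** -/
theorem mem_principalBlock (hM : IsPModular p M) (χ : IrrCharacter G)
    (hχ : ∑ h : G, (Nat.card {x : X // h • x = x} : ℂ) * (χ : G → ℂ) h⁻¹ ≠ 0)
    (hnil : ∀ g : G, IsPRegular p g → ∃ N : ℕ,
      ((Matrix.of fun x y : X => (cn g x y : ZMod p)) -
        ((Subgroup.centralizer ({g} : Set G)).index : ZMod p) • 1) ^ N = 0) :
    χ ∈ principalBlock M G := by
  classical
  have : Fact p.Prime := ⟨hM.1⟩
  obtain ⟨n, ρ, hρ, hρχ⟩ := χ.2
  have htriv : IsIrrCharacter G (fun _ : G => (1 : ℂ)) := by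
    exact Blocks.Basic.isIrrCharacter_one
  show SameBlock M (fun _ : G => (1 : ℂ)) χ
  refine Blocks.PRegular.sameBlock_of_isPRegular hM htriv χ.2 ?_
  intro g hg
  obtain ⟨N, hN⟩ := hnil g hg
  set k : ℕ := (Subgroup.centralizer ({g} : Set G)).index with hk
  have hp0 : (p : ℂ) ≠ 0 := by exact_mod_cast hM.1.ne_zero
  -- the integral matrix
  let C : Matrix X X ℤ := Matrix.of (fun x y : X => (cn g x y : ℤ)) - (k : ℤ) • 1
  have hC : C.map (Int.castRingHom (ZMod p)) =
      (Matrix.of fun x y : X => (cn g x y : ZMod p)) - (k : ZMod p) • 1 := by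
    ext x y
    simp only [C, Matrix.map_apply, Matrix.sub_apply, Matrix.of_apply, Matrix.smul_apply,
      Matrix.one_apply, map_sub]
    split_ifs <;> simp
  have hCN : ∀ x y, (p : ℤ) ∣ (C ^ N) x y := by
    intro x y
    have h1 : (C ^ N).map (Int.castRingHom (ZMod p)) = 0 := by
      have h2 := map_pow (Int.castRingHom (ZMod p)).mapMatrix C N
      have h3 : (Int.castRingHom (ZMod p)).mapMatrix C = C.map (Int.castRingHom (ZMod p)) := rfl
      rw [h3, hC, hN] at h2
      exact h2
    have h2 := congrFun (congrFun h1 x) y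
    rw [Matrix.map_apply, Matrix.zero_apply] at h2
    exact (ZMod.intCast_zmod_eq_zero_iff_dvd _ p).1 h2
  choose Y hY using hCN
  have hCY : C ^ N = (p : ℤ) • (Matrix.of Y) := by
    ext x y
    rw [hY, Matrix.smul_apply, Matrix.of_apply, smul_eq_mul]
  -- the eigenvector
  set lam : ℂ := centralChar (χ : G → ℂ) g with hlam
  let E : Matrix X X ℂ := em (χ : G → ℂ)
  have hE : E ≠ 0 := by
    intro h0
    apply hχ
    rw [← trace_em]
    show E.trace = 0
    rw [h0, Matrix.trace_zero]
  let f : Matrix X X ℤ →+* Matrix X X ℂ := (Int.castRingHom ℂ).mapMatrix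
  have hfC : f C * E = (lam - k) • E := by
    have h1 : f C = csum ℂ g - (k : ℂ) • 1 := by
      ext x y
      show (Int.castRingHom ℂ) (C x y) = _
      rw [Matrix.sub_apply, csum_apply]
      simp only [C, Matrix.sub_apply, Matrix.of_apply, Matrix.smul_apply,
        Matrix.one_apply, map_sub]
      split_ifs <;> simp
    rw [h1, sub_mul, smul_mul_assoc, one_mul, sub_smul]
    congr 1
    show csum ℂ g * em (χ : G → ℂ) = lam • em (χ : G → ℂ)
    rw [hlam, ← hρχ, csum_mul_em ρ hρ]
  have hfN : ∀ m : ℕ, f (C ^ m) * E = (lam - k) ^ m • E := by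
    intro m
    induction m with
    | zero => rw [pow_zero, map_one, one_mul, pow_zero, one_smul]
    | succ m ih => rw [pow_succ, map_mul, mul_assoc, hfC, mul_smul_comm, ih, smul_smul, pow_succ,
        mul_comm (lam - k)]
  have hfY : f (Matrix.of Y) * E = ((lam - k) ^ N / p) • E := by
    have h1 := hfN N
    rw [hCY, map_zsmul, smul_mul_assoc] at h1
    have h2 : (p : ℂ) • (f (Matrix.of Y) * E) = (lam - k) ^ N • E := by
      rw [← h1]
      ext x y
      simp
    rw [div_eq_inv_mul, ← smul_smul, ← h2, smul_smul, inv_mul_cancel₀ hp0, one_smul]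
  have hint := isIntegral_of_mul (Matrix.of Y) E hE _ hfY
  have hlamI : IsIntegral ℤ lam := Blocks.CentralScalar.isIntegral_centralChar χ.2 g
  -- conclusion
  have hone : centralChar (fun _ : G => (1 : ℂ)) g = k := by
    unfold centralChar
    rw [mul_one, div_one]
  rw [hone]
  have hprime : M.IsPrime := hM.2.1.isPrime
  let a : AlgInt := ⟨lam, hlamI⟩
  let b : AlgInt := ⟨_, hint⟩
  have hab : (a - (k : AlgInt)) ^ N = (p : AlgInt) * b := by
    apply Subtype.ext
    show (lam - (((k : ℕ) : AlgInt) : ℂ)) ^ N = (((p : ℕ) : AlgInt) : ℂ) * ((lam - k) ^ N / p)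
    have e1 : (((k : ℕ) : AlgInt) : ℂ) = (k : ℂ) := by simp
    have e2 : (((p : ℕ) : AlgInt) : ℂ) = (p : ℂ) := by simp
    rw [e1, e2]
    field_simp
  have hmem : a - (k : AlgInt) ∈ M := by
    refine hprime.mem_of_pow_mem N ?_
    rw [hab]
    exact M.mul_mem_right _ hM.2.2
  refine ⟨(k : AlgInt) - a, 1, ?_, Blocks.LocalRing.one_notMem hM, ?_⟩
  · rw [← neg_sub]
    exact M.neg_mem hmem
  · simp [a]

end

end Cfsg.Agent.H694.EB
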