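import Cfsg.Agent.H694.EB.Star
import Cfsg.Agent.Nodes.TypeC
import Cfsg.Agent.Nodes.TypeD
import Cfsg.Agent.Tits.Core

/-!
# The nilpotency condition for the Coxeter groups of types `B` and `D`
-/

set_option autoImplicit false

namespace Cfsg.Agent.H694.EB

open Cfsg.Agent.ChevalleyStructure.CoxeterGeom Cfsg.Agent.Tits.Core Cfsg.Agent.Nodes
open Cfsg.Agent.Nodes.TypeC (ng ng_ng ng_fst wt)

/-- A pair of distinct points can be moved anywhere. -/
theorem exists_perm {N : ℕ} {l k a b : Fin N} (hlk : k ≠ l) (hab : a ≠ b) :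
    ∃ σ : Equiv.Perm (Fin N), σ l = a ∧ σ k = b := by
  have h1 : Equiv.swap l a k ≠ a := by
    intro h
    apply hlk
    have h2 := congrArg (Equiv.swap l a) h
    rwa [Equiv.swap_apply_self, Equiv.swap_apply_right] at h2
  refine ⟨Equiv.swap (Equiv.swap l a k) b * Equiv.swap l a, ?_, ?_⟩
  · rw [Equiv.Perm.mul_apply, Equiv.swap_apply_left, Equiv.swap_apply_of_ne_of_ne h1.symm hab]
  · rw [Equiv.Perm.mul_apply, Equiv.swap_apply_left]

/-- **Groups of signed permutations.** -/
theorem star_signed {N : ℕ} {W : Type*} [Group W] [Fintype W]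
    (f : W →* Equiv.Perm (Fin N × Bool)) (hf : Function.Injective f)
    (hng : ∀ w x, f w (ng x) = ng (f w x))
    (hsurj : ∀ σ : Equiv.Perm (Fin N), ∃ w, ∀ x, (f w x).1 = σ x.1)
    (T : Set (Fin N)) (t₀ : W) (ht : ∀ x : Fin N × Bool, x.1 ∈ T → f t₀ x = ng x)
    (ht' : ∀ x : Fin N × Bool, x.1 ∉ T → f t₀ x = x) (hT : T.Nonempty) (hT' : Tᶜ.Nonempty)
    (H : Subgroup W) : Star H := by
  classical
  have hcase : ∀ x y : Fin N × Bool, x.1 = y.1 → x = y ∨ x = ng y := by
    rintro ⟨i, b⟩ ⟨j, c⟩ h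
    have h' : i = j := h
    subst h'
    cases b <;> cases c <;> simp [ng]
  have hne : ∀ x : Fin N × Bool, ng x ≠ x := by
    rintro ⟨i, b⟩ h
    have := congrArg Prod.snd h
    cases b <;> simp [ng] at this
  let O : Subgroup W :=
    { carrier := {w | ∀ x, (f w x).1 = x.1}
      one_mem' := by
        intro x
        rw [map_one]
        rfl
      mul_mem' := by
        intro a b ha hb x
        rw [map_mul, Equiv.Perm.mul_apply, ha, hb]
      inv_mem' := by
        intro a ha x
        have h1 := ha ((f a⁻¹) x)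
        rw [← Equiv.Perm.mul_apply, ← map_mul, mul_inv_cancel, map_one] at h1
        exact h1.symm }
  have hmem : ∀ w, w ∈ O ↔ ∀ x, (f w x).1 = x.1 := fun w => Iff.rfl
  have hkey : ∀ (w : W) (x y : Fin N × Bool), x.1 = y.1 → (f w x).1 = (f w y).1 := by
    intro w x y h
    rcases hcase x y h with h1 | h1
    · rw [h1]
    · rw [h1, hng, ng_fst]
  have : O.Normal := by
    refine ⟨fun w hw v => ?_⟩
    intro x
    rw [map_mul, map_mul, Equiv.Perm.mul_apply, Equiv.Perm.mul_apply]
    rw [hkey v _ _ (hw _), ← Equiv.Perm.mul_apply, ← map_mul, mul_inv_cancel, map_one]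
    rfl
  refine star_of_constrained O ?_ ?_ H
  · rintro ⟨w, hw⟩
    refine ⟨1, Subtype.ext ?_⟩
    show w ^ 2 ^ 1 = 1
    apply hf
    rw [pow_one, pow_two, map_mul, map_one]
    ext1 x
    rw [Equiv.Perm.mul_apply]
    rcases hcase _ _ (hw x) with h1 | h1
    · rw [h1, h1]
      rfl
    · rw [h1, hng, h1, ng_ng]
      rfl
  · intro w hw x
    by_contra hcon
    obtain ⟨a, ha⟩ := hT
    obtain ⟨b, hb⟩ := hT'
    obtain ⟨σ, hσ1, hσ2⟩ := exists_perm (l := (f w x).1) (k := x.1) (a := a) (b := b)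
      (fun h => hcon h.symm) (fun h => hb (h ▸ ha))
    obtain ⟨v, hv⟩ := hsurj σ
    have hvinv : ∀ x, f v⁻¹ (f v x) = x := by
      intro x
      rw [← Equiv.Perm.mul_apply, ← map_mul, inv_mul_cancel, map_one]
      rfl
    have ht1 : ∀ y : Fin N × Bool, f (v⁻¹ * t₀ * v) y = if σ y.1 ∈ T then ng y else y := by
      intro y
      rw [map_mul, map_mul, Equiv.Perm.mul_apply, Equiv.Perm.mul_apply]
      split_ifs with h
      · rw [ht _ (by rw [hv]; exact h), hng, hvinv]
      · rw [ht' _ (by rw [hv]; exact h), hvinv]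
    have htO : v⁻¹ * t₀ * v ∈ O := by
      intro y
      rw [ht1]
      split_ifs
      · rfl
      · rfl
    have hcomm := (Subgroup.mem_centralizer_iff.1 hw) _ htO
    have h1 := congrArg (fun u => f u x) hcomm
    simp only [map_mul f (v⁻¹ * t₀ * v) w, map_mul f w (v⁻¹ * t₀ * v),
      Equiv.Perm.mul_apply] at h1
    rw [ht1, ht1, hσ1, if_pos ha, hσ2, if_neg hb] at h1
    exact hne _ h1

/-- Adjacent transpositions generate. -/
theorem surj_of_adj {N : ℕ} {W : Type*} [Group W] (f : W →* Equiv.Perm (Fin N × Bool))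
    (hadj : ∀ (i : ℕ) (h : i + 1 < N), ∃ w, ∀ x, (f w x).1 =
      Equiv.swap (⟨i, by omega⟩ : Fin N) ⟨i + 1, h⟩ x.1) (σ : Equiv.Perm (Fin N)) :
    ∃ w, ∀ x, (f w x).1 = σ x.1 := by
  cases N with
  | zero => exact ⟨1, fun x => x.1.elim0⟩
  | succ n =>
    have h1 : σ ∈ Submonoid.closure (Set.range fun i : Fin n => Equiv.swap i.castSucc i.succ) := by
      rw [Equiv.Perm.mclosure_swap_castSucc_succ]
      trivial
    induction h1 using Submonoid.closure_induction with
    | mem x hx =>
      obtain ⟨i, rfl⟩ := hx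
      exact hadj i (by omega)
    | one => exact ⟨1, fun x => by rw [map_one]; rfl⟩
    | mul x y _ _ hx hy =>
      obtain ⟨v, hv⟩ := hx
      obtain ⟨w, hw⟩ := hy
      refine ⟨v * w, fun z => ?_⟩
      rw [map_mul, Equiv.Perm.mul_apply, Equiv.Perm.mul_apply, hv, hw]

section B

variable {n : ℕ} {W : Type*} [Group W] (cs : CoxeterSystem (CoxeterMatrix.B n) W)

/-- the simple reflection on signed indices -/
def sgB (n : ℕ) (i : Fin n) : Equiv.Perm (Fin n × Bool) where
  toFun := TypeC.sg i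
  invFun := TypeC.sg i
  left_inv := TypeC.sg_sg i
  right_inv := TypeC.sg_sg i

theorem sgB_pow (i j : Fin n) (m : ℕ) (x : Fin n × Bool) :
    ((sgB n i * sgB n j) ^ m) x = (fun y => TypeC.sg i (TypeC.sg j y))^[m] x := by
  induction m generalizing x with
  | zero => rfl
  | succ m ih =>
    rw [pow_succ, Equiv.Perm.mul_apply, ih, Function.iterate_succ_apply]
    rfl

theorem isLiftable_sgB (n : ℕ) : (CoxeterMatrix.B n).IsLiftable (sgB n) := by
  intro i j
  ext1 x
  rw [sgB_pow, TypeC.sg_braid]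
  rfl

/-- the homomorphism to the signed permutations -/
def homB : W →* Equiv.Perm (Fin n × Bool) := cs.lift ⟨sgB n, isLiftable_sgB n⟩

theorem homB_simple (i : Fin n) (x : Fin n × Bool) : homB cs (cs.simple i) x = TypeC.sg i x := by
  rw [homB, cs.lift_apply_simple]
  rfl

theorem homB_ng (w : W) (x : Fin n × Bool) : homB cs w (ng x) = ng (homB cs w x) := by
  induction w using cs.simple_induction generalizing x with
  | simple i => rw [homB_simple, homB_simple, TypeC.sg_ng]
  | one => rw [map_one]; rfl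
  | mul u v hu hv => rw [map_mul, Equiv.Perm.mul_apply, Equiv.Perm.mul_apply, hv, hu]

theorem homB_ee (w : W) {x : Fin n → ℤ} {a b : Fin n × Bool}
    (h : TypeC.ee x = wt a + wt b) :
    TypeC.ee (rep cs (TypeC.isCartan n) w x) = wt (homB cs w a) + wt (homB cs w b) := by
  induction w using cs.simple_induction generalizing x a b with
  | simple i => rw [rep_simple, TypeC.ee_refl_of h, homB_simple, homB_simple]
  | one => rw [map_one, map_one]; exact h
  | mul u v hu hv =>
    rw [rep_mul_apply, map_mul, Equiv.Perm.mul_apply, Equiv.Perm.mul_apply]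
    exact hu (hv h)

theorem homB_injective : Function.Injective (homB cs) := by
  rw [injective_iff_map_eq_one]
  intro w hw
  refine eq_one_of_fix cs (TypeC.isCartan n) w fun i => ?_
  apply TypeC.ee_injective
  have h1 := homB_ee cs w (x := Pi.single i 1) (a := (i, true)) (b := TypeC.nx i) (by
    rw [TypeC.ee_single, one_smul]
    rfl)
  rw [h1, hw]
  rw [TypeC.ee_single, one_smul]
  rfl

include cs in
theorem star_B (hn : 2 ≤ n) [Fintype W] (H : Subgroup W) : Star H := by
  refine star_signed (homB cs) (homB_injective cs) (homB_ng cs) (surj_of_adj _ ?_)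
    {k | (k : ℕ) + 1 = n} (cs.simple ⟨n - 1, by omega⟩) ?_ ?_ ⟨⟨n - 1, by omega⟩, ?_⟩
    ⟨⟨0, by omega⟩, ?_⟩ H
  · intro i h
    refine ⟨cs.simple ⟨i, by omega⟩, fun x => ?_⟩
    rw [homB_simple, Equiv.swap_apply_def]
    unfold TypeC.sg
    rw [dif_pos h]
    split_ifs <;> simp_all
  · rintro ⟨k, b⟩ hk
    have hk' : (k : ℕ) + 1 = n := hk
    rw [homB_simple]
    have : (⟨n - 1, by omega⟩ : Fin n) = k := Fin.ext (by simp only; omega)
    rw [this, TypeC.sg_last (by omega)]
    rfl
  · rintro ⟨k, b⟩ hk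
    have hk' : ¬ (k : ℕ) + 1 = n := hk
    rw [homB_simple]
    unfold TypeC.sg
    rw [dif_neg (by simp only; omega), if_neg]
    intro h
    have := congrArg Fin.val h
    simp only at this
    omega
  · show n - 1 + 1 = n
    omega
  · show ¬ (0 + 1 = n)
    omega

end B

section D

variable {n : ℕ} {W : Type*} [Group W] (cs : CoxeterSystem (TypeD.M n) W)

/-- the simple reflection on signed indices -/
def sgD (n : ℕ) (i : Fin (n + 2)) : Equiv.Perm (Fin (n + 2) × Bool) where
  toFun := TypeD.sg i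
  invFun := TypeD.sg i
  left_inv := TypeD.sg_sg i
  right_inv := TypeD.sg_sg i

theorem sgD_pow (i j : Fin (n + 2)) (m : ℕ) (x : Fin (n + 2) × Bool) :
    ((sgD n i * sgD n j) ^ m) x = (fun y => TypeD.sg i (TypeD.sg j y))^[m] x := by
  induction m generalizing x with
  | zero => rfl
  | succ m ih =>
    rw [pow_succ, Equiv.Perm.mul_apply, ih, Function.iterate_succ_apply]
    rfl

theorem isLiftable_sgD (n : ℕ) : (TypeD.M n).IsLiftable (sgD n) := by
  intro i j
  ext1 x
  rw [sgD_pow, TypeD.sg_braid]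
  rfl

/-- the homomorphism to the signed permutations -/
def homD : W →* Equiv.Perm (Fin (n + 2) × Bool) := cs.lift ⟨sgD n, isLiftable_sgD n⟩

theorem homD_simple (i : Fin (n + 2)) (x : Fin (n + 2) × Bool) :
    homD cs (cs.simple i) x = TypeD.sg i x := by
  rw [homD, cs.lift_apply_simple]
  rfl

theorem homD_ng (w : W) (x : Fin (n + 2) × Bool) : homD cs w (ng x) = ng (homD cs w x) := by
  induction w using cs.simple_induction generalizing x with
  | simple i => rw [homD_simple, homD_simple, TypeD.sg_ng]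
  | one => rw [map_one]; rfl
  | mul u v hu hv => rw [map_mul, Equiv.Perm.mul_apply, Equiv.Perm.mul_apply, hv, hu]

theorem homD_ee (w : W) {x : Fin (n + 2) → ℤ} {a b : Fin (n + 2) × Bool}
    (h : TypeD.ee x = wt a + wt b) :
    TypeD.ee (rep cs (TypeD.isCartan n) w x) = wt (homD cs w a) + wt (homD cs w b) := by
  induction w using cs.simple_induction generalizing x a b with
  | simple i => rw [rep_simple, TypeD.ee_refl_of h, homD_simple, homD_simple]
  | one => rw [map_one, map_one]; exact h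
  | mul u v hu hv =>
    rw [rep_mul_apply, map_mul, Equiv.Perm.mul_apply, Equiv.Perm.mul_apply]
    exact hu (hv h)

theorem homD_injective : Function.Injective (homD cs) := by
  rw [injective_iff_map_eq_one]
  intro w hw
  refine eq_one_of_fix cs (TypeD.isCartan n) w fun i => ?_
  apply TypeD.ee_injective
  have h1 := homD_ee cs w (x := Pi.single i 1) (a := (i, true)) (b := TypeD.nx i) (by
    rw [TypeD.ee_single, one_smul]
    rfl)
  rw [h1, hw]
  rw [TypeD.ee_single, one_smul]
  rfl

include cs in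
theorem star_D (hn : 1 ≤ n) [Fintype W] (H : Subgroup W) : Star H := by
  have hlast : ¬ ((⟨n + 1, by omega⟩ : Fin (n + 2)) : ℕ) + 1 < n + 2 := by simp
  refine star_signed (homD cs) (homD_injective cs) (homD_ng cs) (surj_of_adj _ ?_)
    {k | n ≤ (k : ℕ)} (cs.simple ⟨n, by omega⟩ * cs.simple ⟨n + 1, by omega⟩) ?_ ?_
    ⟨⟨n, by omega⟩, ?_⟩ ⟨⟨0, by omega⟩, ?_⟩ H
  · intro i h
    refine ⟨cs.simple ⟨i, by omega⟩, fun x => ?_⟩
    rw [homD_simple, Equiv.swap_apply_def]
    unfold TypeD.sg
    rw [dif_pos h]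
    split_ifs <;> simp_all
  · rintro ⟨k, b⟩ hk
    have hk' : n ≤ (k : ℕ) := hk
    have hk2 := k.2
    rw [map_mul, Equiv.Perm.mul_apply, homD_simple, homD_simple]
    have h3 : k = ⟨n, by omega⟩ ∨ k = ⟨n + 1, by omega⟩ := by
      rcases (by omega : (k : ℕ) = n ∨ (k : ℕ) = n + 1) with h | h
      · exact Or.inl (Fin.ext h)
      · exact Or.inr (Fin.ext h)
    rcases h3 with h | h
    · unfold TypeD.sg TypeD.pd ng
      simp [Fin.ext_iff, h]
    · unfold TypeD.sg TypeD.pd ng
      simp [Fin.ext_iff, h]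
  · rintro ⟨k, b⟩ hk
    have hk' : (k : ℕ) < n := not_le.1 hk
    rw [map_mul, Equiv.Perm.mul_apply, homD_simple, homD_simple]
    unfold TypeD.sg TypeD.pd
    have e1 : ¬ (k : ℕ) = n + 1 := by omega
    have e2 : ¬ (k : ℕ) = n := by omega
    simp [Fin.ext_iff, e1, e2]
  · show n ≤ n
    omega
  · show ¬ (n ≤ 0)
    omega

end D

end Cfsg.Agent.H694.EB
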