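import Cfsg.Agent.H694.EB.StarList
import Cfsg.Agent.H694.CoxExc

/-!
# The nilpotency condition for the Coxeter group of type `E₆`
-/

set_option autoImplicit false
set_option maxRecDepth 100000

namespace Cfsg.Agent.H694.EB

open Cfsg.Agent.ChevalleyStructure.CoxeterGeom Cfsg.Agent.Tits.Core Cfsg.Agent.H694
open Cfsg.Agent.ChevalleyStructure.CoxeterGeomTypes

/-! ### Type `E₆` -/

/-- the roots representing the inner products -/
def xE6 (i : Fin 5) : List ℤ := ([[1, 2, 2, 3, 2, 1], [1, 1, 2, 2, 1, 0], [0, 0, 0, 0, 0, -1], [0, -1, 0, -1, -1, -1], [-1, -2, -2, -3, -2, -1]] : List (List ℤ)).getD i []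

/-- their codes -/
def kE6 (i : Fin 5) : ℕ := ([8947864, 7899528, 6916232, 7899512, 8947832] : List ℕ).getD i 0

/-- a multiple of the inverse of the Cartan matrix -/
def BE6 (i j : Fin 6) : ℤ := (([[4, 3, 5, 6, 4, 2], [3, 6, 6, 9, 6, 3], [5, 6, 10, 12, 8, 4], [6, 9, 12, 18, 12, 6], [4, 6, 8, 12, 10, 5], [2, 3, 4, 6, 5, 4]] : List (List ℤ)).getD i []).getD j 0

/-- the pairs of inner products -/
def TE6_0 : List (ℤ × ℤ) := [
  (0, 0), (0, 0), (0, 0), (0, 0), (0, 0), (-1, -1), (1, 1), (-1, -1), (1, 1), (-1, -1), (1, 1),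
  (-1, -1), (1, 1), (-1, -1), (1, 1), (-1, -1), (1, 1), (0, 0), (0, 0), (0, 0), (0, 0),
  (-1, -1), (1, 1), (-1, -1), (1, 1), (-1, -1), (1, 1), (0, 0), (0, 0), (0, 0), (-1, -1),
  (1, 1), (0, 0), (0, 0), (0, 0), (-2, -2), (2, 2), (0, 0), (0, 0), (0, 0), (-1, -1), (1, 1),
  (0, 0), (0, 0), (0, 0), (-1, -1), (1, 1), (-1, -1), (1, 1), (-1, -1), (1, 1), (0, 0), (0, 0),
  (0, 0), (0, 0), (-1, -1), (1, 1), (-1, -1), (1, 1), (-1, -1), (1, 1), (-1, -1), (1, 1),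
  (-1, -1), (1, 1), (-1, -1), (1, 1), (0, 0), (0, 0), (0, 0), (0, 0), (0, 0)]

/-- the pairs of inner products -/
def TE6_1 : List (ℤ × ℤ) := [
  (0, 1), (0, 1), (0, 1), (0, 0), (0, 0), (-1, 1), (1, 2), (-1, 0), (1, 1), (-1, 0), (1, 1),
  (-1, 0), (1, 1), (-1, 0), (1, 1), (-1, -1), (1, 0), (0, 1), (0, 1), (0, 0), (0, 0), (-1, 0),
  (1, 1), (-1, 0), (1, 1), (-1, -1), (1, 0), (0, 1), (0, 1), (0, 0), (-1, -1), (1, 0), (0, 1),
  (0, 1), (0, 0), (-2, -1), (2, 1), (0, 0), (0, -1), (0, -1), (-1, 0), (1, 1), (0, 0), (0, -1),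
  (0, -1), (-1, 0), (1, 1), (-1, -1), (1, 0), (-1, -1), (1, 0), (0, 0), (0, 0), (0, -1),
  (0, -1), (-1, 0), (1, 1), (-1, -1), (1, 0), (-1, -1), (1, 0), (-1, -1), (1, 0), (-1, -1),
  (1, 0), (-1, -2), (1, -1), (0, 0), (0, 0), (0, -1), (0, -1), (0, -1)]

/-- the pairs of inner products -/
def TE6_2 : List (ℤ × ℤ) := [
  (0, 2), (0, 1), (0, 1), (0, 1), (0, 1), (-1, 1), (1, 1), (-1, 1), (1, 1), (-1, 1), (1, 1),
  (-1, 1), (1, 1), (-1, 1), (1, 1), (-1, 1), (1, 1), (0, 1), (0, 1), (0, 1), (0, 1), (-1, 0),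
  (1, 0), (-1, 0), (1, 0), (-1, 0), (1, 0), (0, 0), (0, 0), (0, 0), (-1, 0), (1, 0), (0, 0),
  (0, 0), (0, 0), (-2, 0), (2, 0), (0, 0), (0, 0), (0, 0), (-1, 0), (1, 0), (0, 0), (0, 0),
  (0, 0), (-1, 0), (1, 0), (-1, 0), (1, 0), (-1, 0), (1, 0), (0, -1), (0, -1), (0, -1),
  (0, -1), (-1, -1), (1, -1), (-1, -1), (1, -1), (-1, -1), (1, -1), (-1, -1), (1, -1),
  (-1, -1), (1, -1), (-1, -1), (1, -1), (0, -1), (0, -1), (0, -1), (0, -1), (0, -2)]

/-- the pairs of inner products -/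
def TE6_3 : List (ℤ × ℤ) := [
  (0, 1), (0, 1), (0, 1), (0, 0), (0, 0), (-1, 2), (1, 1), (-1, 1), (1, 0), (-1, 1), (1, 0),
  (-1, 1), (1, 0), (-1, 1), (1, 0), (-1, 0), (1, -1), (0, 1), (0, 1), (0, 0), (0, 0), (-1, 1),
  (1, 0), (-1, 1), (1, 0), (-1, 0), (1, -1), (0, 1), (0, 1), (0, 0), (-1, 0), (1, -1), (0, 1),
  (0, 1), (0, 0), (-2, 1), (2, -1), (0, 0), (0, -1), (0, -1), (-1, 1), (1, 0), (0, 0), (0, -1),
  (0, -1), (-1, 1), (1, 0), (-1, 0), (1, -1), (-1, 0), (1, -1), (0, 0), (0, 0), (0, -1),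
  (0, -1), (-1, 1), (1, 0), (-1, 0), (1, -1), (-1, 0), (1, -1), (-1, 0), (1, -1), (-1, 0),
  (1, -1), (-1, -1), (1, -2), (0, 0), (0, 0), (0, -1), (0, -1), (0, -1)]

/-- the pairs of inner products -/
def TE6_4 : List (ℤ × ℤ) := [
  (0, 0), (0, 0), (0, 0), (0, 0), (0, 0), (-1, 1), (1, -1), (-1, 1), (1, -1), (-1, 1), (1, -1),
  (-1, 1), (1, -1), (-1, 1), (1, -1), (-1, 1), (1, -1), (0, 0), (0, 0), (0, 0), (0, 0),
  (-1, 1), (1, -1), (-1, 1), (1, -1), (-1, 1), (1, -1), (0, 0), (0, 0), (0, 0), (-1, 1),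
  (1, -1), (0, 0), (0, 0), (0, 0), (-2, 2), (2, -2), (0, 0), (0, 0), (0, 0), (-1, 1), (1, -1),
  (0, 0), (0, 0), (0, 0), (-1, 1), (1, -1), (-1, 1), (1, -1), (-1, 1), (1, -1), (0, 0), (0, 0),
  (0, 0), (0, 0), (-1, 1), (1, -1), (-1, 1), (1, -1), (-1, 1), (1, -1), (-1, 1), (1, -1),
  (-1, 1), (1, -1), (-1, 1), (1, -1), (0, 0), (0, 0), (0, 0), (0, 0), (0, 0)]

/-- the pairs of inner products -/
def TE6 (i : Fin 5) : List (ℤ × ℤ) := ![TE6_0, TE6_1, TE6_2, TE6_3, TE6_4] i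

theorem sym_E6 : ∀ i j : Fin 6, cartanOf Cfsg.Lie.chevE6 6 i j = cartanOf Cfsg.Lie.chevE6 6 j i := by
  decide +kernel

theorem inj_E6 (y : Fin 6 → ℤ) (hy : ∀ j, pairing (cartanOf Cfsg.Lie.chevE6 6) j y = 0) : y = 0 :=
  inj_of_inverse BE6 3 (by norm_num) (by
    intro i k
    simp only [cartan_E6]
    revert i k
    decide +kernel) y hy

theorem star_E6 {W : Type*} [Group W] [Fintype W] (cs : CoxeterSystem CoxeterMatrix.E₆ W) :
    Star (WJ cs {i : Fin 6 | dc 8947864 i = 0}) := by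
  refine star_list isCartan_E6 sym_E6 LE6 8947864 (fun i => aE6 i) [16, 22, 30, 42, 30, 16]
    (by decide +kernel) (by decide +kernel) (by decide +kernel) (by
      intro n hn i j
      rw [cartan_E6]
      revert n
      revert i j
      decide +kernel) (by decide +kernel) (by decide +kernel) (by decide +kernel) cs
    (parity_E6 cs).2 [1, 2, 2, 3, 2, 1] xE6 kE6 (by decide +kernel) (by
      intro j
      unfold pairing
      simp only [cartan_E6]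
      revert j
      decide +kernel) (by
      intro i j
      unfold pairing
      simp only [cartan_E6]
      revert i j
      decide +kernel) ![2, 1, 0, -1, -2] (by decide +kernel) (by decide +kernel) inj_E6
    TE6 ?_ (tbl 1329248376415213638410263460705206273) ?_ ![1, 0, 0, 0, 1] (by decide +kernel) (nil_of_bits (by decide +kernel))
  · intro i
    fin_cases i <;> decide +kernel
  · decide +kernel

end Cfsg.Agent.H694.EB
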