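import Cfsg.Agent.H694.EB.StarList
import Cfsg.Agent.H694.CoxExc

/-!
# The nilpotency condition for the Coxeter group of type `E₇`
-/

set_option autoImplicit false
set_option maxRecDepth 100000

namespace Cfsg.Agent.H694.EB

open Cfsg.Agent.ChevalleyStructure.CoxeterGeom Cfsg.Agent.Tits.Core Cfsg.Agent.H694
open Cfsg.Agent.ChevalleyStructure.CoxeterGeomTypes

/-! ### Type `E₇` -/

/-- the roots representing the inner products -/
def xE7 (i : Fin 5) : List ℤ := ([[2, 2, 3, 4, 3, 2, 1], [1, 2, 2, 3, 2, 1, 0], [0, 0, 0, 0, 0, 0, -1], [-1, 0, -1, -1, -1, -1, -1], [-2, -2, -3, -4, -3, -2, -1]] : List (List ℤ)).getD i []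

/-- their codes -/
def kE7 (i : Fin 5) : ℕ := ([143165577, 126388376, 110659720, 126388375, 143165575] : List ℕ).getD i 0

/-- a multiple of the inverse of the Cartan matrix -/
def BE7 (i j : Fin 7) : ℤ := (([[4, 4, 6, 8, 6, 4, 2], [4, 7, 8, 12, 9, 6, 3], [6, 8, 12, 16, 12, 8, 4], [8, 12, 16, 24, 18, 12, 6], [6, 9, 12, 18, 15, 10, 5], [4, 6, 8, 12, 10, 8, 4], [2, 3, 4, 6, 5, 4, 3]] : List (List ℤ)).getD i []).getD j 0

/-- the pairs of inner products -/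
def TE7_0 : List (ℤ × ℤ) := [
  (0, 0), (0, 0), (0, 0), (0, 0), (0, 0), (-1, -1), (1, 1), (0, 0), (0, 0), (-1, -1), (1, 1),
  (0, 0), (-1, -1), (1, 1), (-1, -1), (1, 1), (0, 0), (0, 0), (-1, -1), (1, 1), (-1, -1),
  (1, 1), (0, 0), (-1, -1), (1, 1), (0, 0), (0, 0), (-1, -1), (1, 1), (0, 0), (0, 0), (0, 0),
  (0, 0), (0, 0), (-1, -1), (1, 1), (-1, -1), (1, 1), (0, 0), (-1, -1), (1, 1), (0, 0), (0, 0),
  (-1, -1), (1, 1), (0, 0), (0, 0), (0, 0), (-1, -1), (1, 1), (0, 0), (0, 0), (-1, -1), (1, 1),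
  (0, 0), (0, 0), (0, 0), (-1, -1), (1, 1), (0, 0), (-1, -1), (1, 1), (-2, -2), (2, 2),
  (-1, -1), (1, 1), (0, 0), (-1, -1), (1, 1), (0, 0), (0, 0), (0, 0), (-1, -1), (1, 1), (0, 0),
  (0, 0), (-1, -1), (1, 1), (0, 0), (0, 0), (0, 0), (-1, -1), (1, 1), (0, 0), (0, 0), (-1, -1),
  (1, 1), (0, 0), (-1, -1), (1, 1), (-1, -1), (1, 1), (0, 0), (0, 0), (0, 0), (0, 0), (0, 0),
  (-1, -1), (1, 1), (0, 0), (0, 0), (-1, -1), (1, 1), (0, 0), (-1, -1), (1, 1), (-1, -1),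
  (1, 1), (0, 0), (0, 0), (-1, -1), (1, 1), (-1, -1), (1, 1), (0, 0), (-1, -1), (1, 1), (0, 0),
  (0, 0), (-1, -1), (1, 1), (0, 0), (0, 0), (0, 0), (0, 0), (0, 0)]

/-- the pairs of inner products -/
def TE7_1 : List (ℤ × ℤ) := [
  (0, 1), (0, 1), (0, 1), (0, 1), (0, 1), (-1, 1), (1, 2), (0, 0), (0, 0), (-1, 0), (1, 1),
  (0, 0), (-1, 0), (1, 1), (-1, 0), (1, 1), (0, 1), (0, 0), (-1, 0), (1, 1), (-1, 0), (1, 1),
  (0, 1), (-1, 0), (1, 1), (0, 1), (0, 1), (-1, -1), (1, 0), (0, 0), (0, 0), (0, 0), (0, 0),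
  (0, 0), (-1, 0), (1, 1), (-1, 0), (1, 1), (0, 1), (-1, 0), (1, 1), (0, 1), (0, 1), (-1, -1),
  (1, 0), (0, 0), (0, 0), (0, 0), (-1, 0), (1, 1), (0, 1), (0, 1), (-1, -1), (1, 0), (0, 0),
  (0, 0), (0, 1), (-1, -1), (1, 0), (0, 0), (-1, -1), (1, 0), (-2, -1), (2, 1), (-1, 0),
  (1, 1), (0, 0), (-1, 0), (1, 1), (0, -1), (0, 0), (0, 0), (-1, 0), (1, 1), (0, -1), (0, -1),
  (-1, -1), (1, 0), (0, 0), (0, 0), (0, 0), (-1, 0), (1, 1), (0, -1), (0, -1), (-1, -1),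
  (1, 0), (0, -1), (-1, -1), (1, 0), (-1, -1), (1, 0), (0, 0), (0, 0), (0, 0), (0, 0), (0, 0),
  (-1, 0), (1, 1), (0, -1), (0, -1), (-1, -1), (1, 0), (0, -1), (-1, -1), (1, 0), (-1, -1),
  (1, 0), (0, 0), (0, -1), (-1, -1), (1, 0), (-1, -1), (1, 0), (0, 0), (-1, -1), (1, 0),
  (0, 0), (0, 0), (-1, -2), (1, -1), (0, -1), (0, -1), (0, -1), (0, -1), (0, -1)]

/-- the pairs of inner products -/
def TE7_2 : List (ℤ × ℤ) := [
  (0, 2), (0, 1), (0, 1), (0, 1), (0, 1), (-1, 1), (1, 1), (0, 1), (0, 1), (-1, 1), (1, 1),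
  (0, 1), (-1, 1), (1, 1), (-1, 1), (1, 1), (0, 1), (0, 1), (-1, 1), (1, 1), (-1, 1), (1, 1),
  (0, 1), (-1, 1), (1, 1), (0, 1), (0, 1), (-1, 1), (1, 1), (0, 1), (0, 1), (0, 1), (0, 1),
  (0, 0), (-1, 0), (1, 0), (-1, 0), (1, 0), (0, 0), (-1, 0), (1, 0), (0, 0), (0, 0), (-1, 0),
  (1, 0), (0, 0), (0, 0), (0, 0), (-1, 0), (1, 0), (0, 0), (0, 0), (-1, 0), (1, 0), (0, 0),
  (0, 0), (0, 0), (-1, 0), (1, 0), (0, 0), (-1, 0), (1, 0), (-2, 0), (2, 0), (-1, 0), (1, 0),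
  (0, 0), (-1, 0), (1, 0), (0, 0), (0, 0), (0, 0), (-1, 0), (1, 0), (0, 0), (0, 0), (-1, 0),
  (1, 0), (0, 0), (0, 0), (0, 0), (-1, 0), (1, 0), (0, 0), (0, 0), (-1, 0), (1, 0), (0, 0),
  (-1, 0), (1, 0), (-1, 0), (1, 0), (0, 0), (0, -1), (0, -1), (0, -1), (0, -1), (-1, -1),
  (1, -1), (0, -1), (0, -1), (-1, -1), (1, -1), (0, -1), (-1, -1), (1, -1), (-1, -1), (1, -1),
  (0, -1), (0, -1), (-1, -1), (1, -1), (-1, -1), (1, -1), (0, -1), (-1, -1), (1, -1), (0, -1),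
  (0, -1), (-1, -1), (1, -1), (0, -1), (0, -1), (0, -1), (0, -1), (0, -2)]

/-- the pairs of inner products -/
def TE7_3 : List (ℤ × ℤ) := [
  (0, 1), (0, 1), (0, 1), (0, 1), (0, 1), (-1, 2), (1, 1), (0, 0), (0, 0), (-1, 1), (1, 0),
  (0, 0), (-1, 1), (1, 0), (-1, 1), (1, 0), (0, 1), (0, 0), (-1, 1), (1, 0), (-1, 1), (1, 0),
  (0, 1), (-1, 1), (1, 0), (0, 1), (0, 1), (-1, 0), (1, -1), (0, 0), (0, 0), (0, 0), (0, 0),
  (0, 0), (-1, 1), (1, 0), (-1, 1), (1, 0), (0, 1), (-1, 1), (1, 0), (0, 1), (0, 1), (-1, 0),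
  (1, -1), (0, 0), (0, 0), (0, 0), (-1, 1), (1, 0), (0, 1), (0, 1), (-1, 0), (1, -1), (0, 0),
  (0, 0), (0, 1), (-1, 0), (1, -1), (0, 0), (-1, 0), (1, -1), (-2, 1), (2, -1), (-1, 1),
  (1, 0), (0, 0), (-1, 1), (1, 0), (0, -1), (0, 0), (0, 0), (-1, 1), (1, 0), (0, -1), (0, -1),
  (-1, 0), (1, -1), (0, 0), (0, 0), (0, 0), (-1, 1), (1, 0), (0, -1), (0, -1), (-1, 0),
  (1, -1), (0, -1), (-1, 0), (1, -1), (-1, 0), (1, -1), (0, 0), (0, 0), (0, 0), (0, 0), (0, 0),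
  (-1, 1), (1, 0), (0, -1), (0, -1), (-1, 0), (1, -1), (0, -1), (-1, 0), (1, -1), (-1, 0),
  (1, -1), (0, 0), (0, -1), (-1, 0), (1, -1), (-1, 0), (1, -1), (0, 0), (-1, 0), (1, -1),
  (0, 0), (0, 0), (-1, -1), (1, -2), (0, -1), (0, -1), (0, -1), (0, -1), (0, -1)]

/-- the pairs of inner products -/
def TE7_4 : List (ℤ × ℤ) := [
  (0, 0), (0, 0), (0, 0), (0, 0), (0, 0), (-1, 1), (1, -1), (0, 0), (0, 0), (-1, 1), (1, -1),
  (0, 0), (-1, 1), (1, -1), (-1, 1), (1, -1), (0, 0), (0, 0), (-1, 1), (1, -1), (-1, 1),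
  (1, -1), (0, 0), (-1, 1), (1, -1), (0, 0), (0, 0), (-1, 1), (1, -1), (0, 0), (0, 0), (0, 0),
  (0, 0), (0, 0), (-1, 1), (1, -1), (-1, 1), (1, -1), (0, 0), (-1, 1), (1, -1), (0, 0), (0, 0),
  (-1, 1), (1, -1), (0, 0), (0, 0), (0, 0), (-1, 1), (1, -1), (0, 0), (0, 0), (-1, 1), (1, -1),
  (0, 0), (0, 0), (0, 0), (-1, 1), (1, -1), (0, 0), (-1, 1), (1, -1), (-2, 2), (2, -2),
  (-1, 1), (1, -1), (0, 0), (-1, 1), (1, -1), (0, 0), (0, 0), (0, 0), (-1, 1), (1, -1), (0, 0),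
  (0, 0), (-1, 1), (1, -1), (0, 0), (0, 0), (0, 0), (-1, 1), (1, -1), (0, 0), (0, 0), (-1, 1),
  (1, -1), (0, 0), (-1, 1), (1, -1), (-1, 1), (1, -1), (0, 0), (0, 0), (0, 0), (0, 0), (0, 0),
  (-1, 1), (1, -1), (0, 0), (0, 0), (-1, 1), (1, -1), (0, 0), (-1, 1), (1, -1), (-1, 1),
  (1, -1), (0, 0), (0, 0), (-1, 1), (1, -1), (-1, 1), (1, -1), (0, 0), (-1, 1), (1, -1),
  (0, 0), (0, 0), (-1, 1), (1, -1), (0, 0), (0, 0), (0, 0), (0, 0), (0, 0)]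

/-- the pairs of inner products -/
def TE7 (i : Fin 5) : List (ℤ × ℤ) := ![TE7_0, TE7_1, TE7_2, TE7_3, TE7_4] i

theorem sym_E7 : ∀ i j : Fin 7, cartanOf Cfsg.Lie.chevE7 7 i j = cartanOf Cfsg.Lie.chevE7 7 j i := by
  decide +kernel

theorem inj_E7 (y : Fin 7 → ℤ) (hy : ∀ j, pairing (cartanOf Cfsg.Lie.chevE7 7) j y = 0) : y = 0 :=
  inj_of_inverse BE7 2 (by norm_num) (by
    intro i k
    simp only [cartan_E7]
    revert i k
    decide +kernel) y hy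

theorem star_E7 {W : Type*} [Group W] [Fintype W] (cs : CoxeterSystem CoxeterMatrix.E₇ W) :
    Star (WJ cs {i : Fin 7 | dc 143165577 i = 0}) := by
  refine star_list isCartan_E7 sym_E7 LE7 143165577 (fun i => aE7 i) [34, 49, 66, 96, 75, 52, 27]
    (by decide +kernel) (by decide +kernel) (by decide +kernel) (by
      intro n hn i j
      rw [cartan_E7]
      revert n
      revert i j
      decide +kernel) (by decide +kernel) (by decide +kernel) (by decide +kernel) cs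
    (parity_E7 cs).2 [2, 2, 3, 4, 3, 2, 1] xE7 kE7 (by decide +kernel) (by
      intro j
      unfold pairing
      simp only [cartan_E7]
      revert j
      decide +kernel) (by
      intro i j
      unfold pairing
      simp only [cartan_E7]
      revert i j
      decide +kernel) ![2, 1, 0, -1, -2] (by decide +kernel) (by decide +kernel) inj_E7
    TE7 ?_ (tbl 1329248376415213638410263460705206273) ?_ ![1, 0, 0, 0, 1] (by decide +kernel) (nil_of_bits (by decide +kernel))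
  · intro i
    fin_cases i <;> decide +kernel
  · decide +kernel

end Cfsg.Agent.H694.EB
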