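import Cfsg.Agent.H694.EB.StarList
import Cfsg.Agent.H694.CoxExc

/-!
# The nilpotency condition for the Coxeter group of type `E₈`
-/

set_option autoImplicit false
set_option maxRecDepth 100000
set_option maxHeartbeats 4000000

namespace Cfsg.Agent.H694.EB

open Cfsg.Agent.ChevalleyStructure.CoxeterGeom Cfsg.Agent.Tits.Core Cfsg.Agent.H694
open Cfsg.Agent.ChevalleyStructure.CoxeterGeomTypes

/-! ### Type `E₈` -/

/-- the roots representing the inner products -/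
def xE8 (i : Fin 5) : List ℤ := ([[2, 3, 4, 6, 5, 4, 3, 2], [2, 3, 4, 6, 5, 4, 3, 1], [2, 2, 3, 4, 3, 2, 1, 0], [0, 0, 0, 0, 0, 0, 0, -1], [-2, -3, -4, -6, -5, -4, -3, -2]] : List (List ℤ)).getD i []

/-- their codes -/
def kE8 (i : Fin 5) : ℕ := ([2559084680, 2038990984, 2022213769, 1770555528, 2022213768] : List ℕ).getD i 0

/-- a multiple of the inverse of the Cartan matrix -/
def BE8 (i j : Fin 8) : ℤ := (([[4, 5, 7, 10, 8, 6, 4, 2], [5, 8, 10, 15, 12, 9, 6, 3], [7, 10, 14, 20, 16, 12, 8, 4], [10, 15, 20, 30, 24, 18, 12, 6], [8, 12, 16, 24, 20, 15, 10, 5], [6, 9, 12, 18, 15, 12, 8, 4], [4, 6, 8, 12, 10, 8, 6, 3], [2, 3, 4, 6, 5, 4, 3, 2]] : List (List ℤ)).getD i []).getD j 0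

/-- the pairs of inner products -/
def TE8_0 : List (ℤ × ℤ) := [
  (-1, -1), (-1, -1), (-1, -1), (-1, -1), (-1, -1), (-1, -1), (-2, -2), (0, 0), (-1, -1),
  (-1, -1), (0, 0), (-1, -1), (0, 0), (-1, -1), (-1, -1), (0, 0), (-1, -1), (-1, -1), (0, 0),
  (-1, -1), (0, 0), (-1, -1), (-1, -1), (0, 0), (-1, -1), (0, 0), (0, 0), (-1, -1), (0, 0),
  (-1, -1), (0, 0), (-1, -1), (-1, -1), (0, 0), (-1, -1), (0, 0), (0, 0), (-1, -1), (0, 0),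
  (-1, -1), (0, 0), (0, 0), (-1, -1), (0, 0), (0, 0), (-1, -1), (0, 0), (-1, -1), (0, 0),
  (0, 0), (-1, -1), (1, 1), (0, 0), (0, 0), (0, 0), (0, 0), (0, 0), (-1, -1), (0, 0), (-1, -1),
  (-1, -1), (0, 0), (-1, -1), (0, 0), (0, 0), (-1, -1), (0, 0), (-1, -1), (0, 0), (0, 0),
  (-1, -1), (0, 0), (0, 0), (-1, -1), (0, 0), (-1, -1), (0, 0), (0, 0), (-1, -1), (1, 1),
  (0, 0), (0, 0), (0, 0), (0, 0), (-1, -1), (0, 0), (0, 0), (-1, -1), (0, 0), (0, 0), (-1, -1),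
  (0, 0), (-1, -1), (0, 0), (0, 0), (-1, -1), (1, 1), (0, 0), (0, 0), (0, 0), (0, 0), (-1, -1),
  (0, 0), (-1, -1), (0, 0), (0, 0), (-1, -1), (1, 1), (0, 0), (0, 0), (-1, -1), (0, 0), (0, 0),
  (-1, -1), (1, 1), (0, 0), (0, 0), (-1, -1), (1, 1), (-1, -1), (1, 1), (-1, -1), (1, 1),
  (0, 0), (0, 0), (-1, -1), (1, 1), (0, 0), (0, 0), (1, 1), (0, 0), (0, 0), (-1, -1), (1, 1),
  (0, 0), (0, 0), (1, 1), (0, 0), (1, 1), (0, 0), (0, 0), (0, 0), (0, 0), (-1, -1), (1, 1),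
  (0, 0), (0, 0), (1, 1), (0, 0), (1, 1), (0, 0), (0, 0), (1, 1), (0, 0), (0, 0), (1, 1),
  (0, 0), (0, 0), (0, 0), (0, 0), (-1, -1), (1, 1), (0, 0), (0, 0), (1, 1), (0, 0), (1, 1),
  (0, 0), (0, 0), (1, 1), (0, 0), (0, 0), (1, 1), (0, 0), (1, 1), (0, 0), (0, 0), (1, 1),
  (0, 0), (1, 1), (1, 1), (0, 0), (1, 1), (0, 0), (0, 0), (0, 0), (0, 0), (0, 0), (-1, -1),
  (1, 1), (0, 0), (0, 0), (1, 1), (0, 0), (1, 1), (0, 0), (0, 0), (1, 1), (0, 0), (0, 0),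
  (1, 1), (0, 0), (1, 1), (0, 0), (0, 0), (1, 1), (0, 0), (1, 1), (1, 1), (0, 0), (1, 1),
  (0, 0), (1, 1), (0, 0), (0, 0), (1, 1), (0, 0), (1, 1), (1, 1), (0, 0), (1, 1), (0, 0),
  (1, 1), (1, 1), (0, 0), (1, 1), (1, 1), (0, 0), (1, 1), (0, 0), (1, 1), (1, 1), (0, 0),
  (2, 2), (1, 1), (1, 1), (1, 1), (1, 1), (1, 1), (1, 1)]

/-- the pairs of inner products -/
def TE8_1 : List (ℤ × ℤ) := [
  (-1, 1), (-1, 0), (-1, 0), (-1, 0), (-1, 0), (-1, 0), (-2, -1), (0, 1), (-1, 0), (-1, 0),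
  (0, 1), (-1, 0), (0, 1), (-1, 0), (-1, 0), (0, 1), (-1, 0), (-1, 0), (0, 1), (-1, 0), (0, 1),
  (-1, 0), (-1, 0), (0, 1), (-1, 0), (0, 1), (0, 1), (-1, 0), (0, 1), (-1, 0), (0, 1), (-1, 0),
  (-1, 0), (0, 1), (-1, 0), (0, 1), (0, 1), (-1, 0), (0, 1), (-1, 0), (0, 1), (0, 1), (-1, 0),
  (0, 1), (0, 1), (-1, 0), (0, 1), (-1, 0), (0, 1), (0, 1), (-1, 0), (1, 2), (0, 1), (0, 1),
  (0, 1), (0, 1), (0, 1), (-1, -1), (0, 0), (-1, -1), (-1, -1), (0, 0), (-1, -1), (0, 0),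
  (0, 0), (-1, -1), (0, 0), (-1, -1), (0, 0), (0, 0), (-1, -1), (0, 0), (0, 0), (-1, -1),
  (0, 0), (-1, -1), (0, 0), (0, 0), (-1, -1), (1, 1), (0, 0), (0, 0), (0, 0), (0, 0), (-1, -1),
  (0, 0), (0, 0), (-1, -1), (0, 0), (0, 0), (-1, -1), (0, 0), (-1, -1), (0, 0), (0, 0),
  (-1, -1), (1, 1), (0, 0), (0, 0), (0, 0), (0, 0), (-1, -1), (0, 0), (-1, -1), (0, 0), (0, 0),
  (-1, -1), (1, 1), (0, 0), (0, 0), (-1, -1), (0, 0), (0, 0), (-1, -1), (1, 1), (0, 0), (0, 0),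
  (-1, -1), (1, 1), (-1, -1), (1, 1), (-1, -1), (1, 1), (0, 0), (0, 0), (-1, -1), (1, 1),
  (0, 0), (0, 0), (1, 1), (0, 0), (0, 0), (-1, -1), (1, 1), (0, 0), (0, 0), (1, 1), (0, 0),
  (1, 1), (0, 0), (0, 0), (0, 0), (0, 0), (-1, -1), (1, 1), (0, 0), (0, 0), (1, 1), (0, 0),
  (1, 1), (0, 0), (0, 0), (1, 1), (0, 0), (0, 0), (1, 1), (0, 0), (0, 0), (0, 0), (0, 0),
  (-1, -1), (1, 1), (0, 0), (0, 0), (1, 1), (0, 0), (1, 1), (0, 0), (0, 0), (1, 1), (0, 0),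
  (0, 0), (1, 1), (0, 0), (1, 1), (0, 0), (0, 0), (1, 1), (0, 0), (1, 1), (1, 1), (0, 0),
  (1, 1), (0, -1), (0, -1), (0, -1), (0, -1), (0, -1), (-1, -2), (1, 0), (0, -1), (0, -1),
  (1, 0), (0, -1), (1, 0), (0, -1), (0, -1), (1, 0), (0, -1), (0, -1), (1, 0), (0, -1), (1, 0),
  (0, -1), (0, -1), (1, 0), (0, -1), (1, 0), (1, 0), (0, -1), (1, 0), (0, -1), (1, 0), (0, -1),
  (0, -1), (1, 0), (0, -1), (1, 0), (1, 0), (0, -1), (1, 0), (0, -1), (1, 0), (1, 0), (0, -1),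
  (1, 0), (1, 0), (0, -1), (1, 0), (0, -1), (1, 0), (1, 0), (0, -1), (2, 1), (1, 0), (1, 0),
  (1, 0), (1, 0), (1, 0), (1, -1)]

/-- the pairs of inner products -/
def TE8_2 : List (ℤ × ℤ) := [
  (-1, 1), (-1, 1), (-1, 1), (-1, 1), (-1, 1), (-1, 1), (-2, 0), (0, 2), (-1, 0), (-1, 1),
  (0, 1), (-1, 1), (0, 1), (-1, 0), (-1, 1), (0, 1), (-1, 0), (-1, 0), (0, 1), (-1, 1), (0, 1),
  (-1, 0), (-1, 0), (0, 1), (-1, 0), (0, 1), (0, 1), (-1, 0), (0, 0), (-1, 1), (0, 1), (-1, 0),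
  (-1, 0), (0, 1), (-1, 0), (0, 1), (0, 1), (-1, 0), (0, 0), (-1, 0), (0, 1), (0, 1), (-1, 0),
  (0, 0), (0, 1), (-1, 0), (0, 0), (-1, 0), (0, 0), (0, 1), (-1, -1), (1, 1), (0, 0), (0, 0),
  (0, 0), (0, 0), (0, 0), (-1, 1), (0, 1), (-1, 0), (-1, 0), (0, 1), (-1, 0), (0, 1), (0, 1),
  (-1, 0), (0, 0), (-1, 0), (0, 1), (0, 1), (-1, 0), (0, 0), (0, 1), (-1, 0), (0, 0), (-1, 0),
  (0, 0), (0, 1), (-1, -1), (1, 1), (0, 0), (0, 0), (0, 0), (0, 0), (-1, 0), (0, 1), (0, 1),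
  (-1, 0), (0, 0), (0, 1), (-1, 0), (0, 0), (-1, 0), (0, 0), (0, 1), (-1, -1), (1, 1), (0, 0),
  (0, 0), (0, 0), (0, 1), (-1, 0), (0, 0), (-1, 0), (0, 0), (0, 1), (-1, -1), (1, 1), (0, 0),
  (0, 0), (-1, 0), (0, 0), (0, 1), (-1, -1), (1, 1), (0, 0), (0, 1), (-1, -1), (1, 1), (-1, 0),
  (1, 0), (-1, -1), (1, 1), (0, -1), (0, 0), (-1, -1), (1, 1), (0, -1), (0, 0), (1, 0), (0, 0),
  (0, 0), (-1, -1), (1, 1), (0, -1), (0, 0), (1, 0), (0, 0), (1, 0), (0, -1), (0, 0), (0, 0),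
  (0, 0), (-1, -1), (1, 1), (0, -1), (0, 0), (1, 0), (0, 0), (1, 0), (0, -1), (0, 0), (1, 0),
  (0, -1), (0, -1), (1, 0), (0, 0), (0, 0), (0, 0), (0, 0), (-1, -1), (1, 1), (0, -1), (0, 0),
  (1, 0), (0, 0), (1, 0), (0, -1), (0, 0), (1, 0), (0, -1), (0, -1), (1, 0), (0, 0), (1, 0),
  (0, -1), (0, -1), (1, 0), (0, -1), (1, 0), (1, 0), (0, -1), (1, -1), (0, 0), (0, 0), (0, 0),
  (0, 0), (0, 0), (-1, -1), (1, 1), (0, -1), (0, 0), (1, 0), (0, 0), (1, 0), (0, -1), (0, 0),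
  (1, 0), (0, -1), (0, -1), (1, 0), (0, 0), (1, 0), (0, -1), (0, -1), (1, 0), (0, -1), (1, 0),
  (1, 0), (0, -1), (1, -1), (0, 0), (1, 0), (0, -1), (0, -1), (1, 0), (0, -1), (1, 0), (1, 0),
  (0, -1), (1, -1), (0, -1), (1, 0), (1, 0), (0, -1), (1, -1), (1, 0), (0, -1), (1, -1),
  (0, -1), (1, -1), (1, 0), (0, -2), (2, 0), (1, -1), (1, -1), (1, -1), (1, -1), (1, -1),
  (1, -1)]

/-- the pairs of inner products -/
def TE8_3 : List (ℤ × ℤ) := [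
  (-1, 2), (-1, 1), (-1, 1), (-1, 1), (-1, 1), (-1, 1), (-2, 1), (0, 1), (-1, 1), (-1, 1),
  (0, 1), (-1, 1), (0, 1), (-1, 1), (-1, 1), (0, 1), (-1, 1), (-1, 1), (0, 1), (-1, 1), (0, 1),
  (-1, 1), (-1, 1), (0, 1), (-1, 1), (0, 1), (0, 1), (-1, 1), (0, 1), (-1, 1), (0, 1), (-1, 1),
  (-1, 1), (0, 1), (-1, 1), (0, 1), (0, 1), (-1, 1), (0, 1), (-1, 1), (0, 1), (0, 1), (-1, 1),
  (0, 1), (0, 1), (-1, 1), (0, 1), (-1, 1), (0, 1), (0, 1), (-1, 1), (1, 1), (0, 1), (0, 1),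
  (0, 1), (0, 1), (0, 1), (-1, 0), (0, 0), (-1, 0), (-1, 0), (0, 0), (-1, 0), (0, 0), (0, 0),
  (-1, 0), (0, 0), (-1, 0), (0, 0), (0, 0), (-1, 0), (0, 0), (0, 0), (-1, 0), (0, 0), (-1, 0),
  (0, 0), (0, 0), (-1, 0), (1, 0), (0, 0), (0, 0), (0, 0), (0, 0), (-1, 0), (0, 0), (0, 0),
  (-1, 0), (0, 0), (0, 0), (-1, 0), (0, 0), (-1, 0), (0, 0), (0, 0), (-1, 0), (1, 0), (0, 0),
  (0, 0), (0, 0), (0, 0), (-1, 0), (0, 0), (-1, 0), (0, 0), (0, 0), (-1, 0), (1, 0), (0, 0),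
  (0, 0), (-1, 0), (0, 0), (0, 0), (-1, 0), (1, 0), (0, 0), (0, 0), (-1, 0), (1, 0), (-1, 0),
  (1, 0), (-1, 0), (1, 0), (0, 0), (0, 0), (-1, 0), (1, 0), (0, 0), (0, 0), (1, 0), (0, 0),
  (0, 0), (-1, 0), (1, 0), (0, 0), (0, 0), (1, 0), (0, 0), (1, 0), (0, 0), (0, 0), (0, 0),
  (0, 0), (-1, 0), (1, 0), (0, 0), (0, 0), (1, 0), (0, 0), (1, 0), (0, 0), (0, 0), (1, 0),
  (0, 0), (0, 0), (1, 0), (0, 0), (0, 0), (0, 0), (0, 0), (-1, 0), (1, 0), (0, 0), (0, 0),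
  (1, 0), (0, 0), (1, 0), (0, 0), (0, 0), (1, 0), (0, 0), (0, 0), (1, 0), (0, 0), (1, 0),
  (0, 0), (0, 0), (1, 0), (0, 0), (1, 0), (1, 0), (0, 0), (1, 0), (0, -1), (0, -1), (0, -1),
  (0, -1), (0, -1), (-1, -1), (1, -1), (0, -1), (0, -1), (1, -1), (0, -1), (1, -1), (0, -1),
  (0, -1), (1, -1), (0, -1), (0, -1), (1, -1), (0, -1), (1, -1), (0, -1), (0, -1), (1, -1),
  (0, -1), (1, -1), (1, -1), (0, -1), (1, -1), (0, -1), (1, -1), (0, -1), (0, -1), (1, -1),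
  (0, -1), (1, -1), (1, -1), (0, -1), (1, -1), (0, -1), (1, -1), (1, -1), (0, -1), (1, -1),
  (1, -1), (0, -1), (1, -1), (0, -1), (1, -1), (1, -1), (0, -1), (2, -1), (1, -1), (1, -1),
  (1, -1), (1, -1), (1, -1), (1, -2)]

/-- the pairs of inner products -/
def TE8_4 : List (ℤ × ℤ) := [
  (-1, 1), (-1, 1), (-1, 1), (-1, 1), (-1, 1), (-1, 1), (-2, 2), (0, 0), (-1, 1), (-1, 1),
  (0, 0), (-1, 1), (0, 0), (-1, 1), (-1, 1), (0, 0), (-1, 1), (-1, 1), (0, 0), (-1, 1), (0, 0),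
  (-1, 1), (-1, 1), (0, 0), (-1, 1), (0, 0), (0, 0), (-1, 1), (0, 0), (-1, 1), (0, 0), (-1, 1),
  (-1, 1), (0, 0), (-1, 1), (0, 0), (0, 0), (-1, 1), (0, 0), (-1, 1), (0, 0), (0, 0), (-1, 1),
  (0, 0), (0, 0), (-1, 1), (0, 0), (-1, 1), (0, 0), (0, 0), (-1, 1), (1, -1), (0, 0), (0, 0),
  (0, 0), (0, 0), (0, 0), (-1, 1), (0, 0), (-1, 1), (-1, 1), (0, 0), (-1, 1), (0, 0), (0, 0),
  (-1, 1), (0, 0), (-1, 1), (0, 0), (0, 0), (-1, 1), (0, 0), (0, 0), (-1, 1), (0, 0), (-1, 1),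
  (0, 0), (0, 0), (-1, 1), (1, -1), (0, 0), (0, 0), (0, 0), (0, 0), (-1, 1), (0, 0), (0, 0),
  (-1, 1), (0, 0), (0, 0), (-1, 1), (0, 0), (-1, 1), (0, 0), (0, 0), (-1, 1), (1, -1), (0, 0),
  (0, 0), (0, 0), (0, 0), (-1, 1), (0, 0), (-1, 1), (0, 0), (0, 0), (-1, 1), (1, -1), (0, 0),
  (0, 0), (-1, 1), (0, 0), (0, 0), (-1, 1), (1, -1), (0, 0), (0, 0), (-1, 1), (1, -1), (-1, 1),
  (1, -1), (-1, 1), (1, -1), (0, 0), (0, 0), (-1, 1), (1, -1), (0, 0), (0, 0), (1, -1), (0, 0),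
  (0, 0), (-1, 1), (1, -1), (0, 0), (0, 0), (1, -1), (0, 0), (1, -1), (0, 0), (0, 0), (0, 0),
  (0, 0), (-1, 1), (1, -1), (0, 0), (0, 0), (1, -1), (0, 0), (1, -1), (0, 0), (0, 0), (1, -1),
  (0, 0), (0, 0), (1, -1), (0, 0), (0, 0), (0, 0), (0, 0), (-1, 1), (1, -1), (0, 0), (0, 0),
  (1, -1), (0, 0), (1, -1), (0, 0), (0, 0), (1, -1), (0, 0), (0, 0), (1, -1), (0, 0), (1, -1),
  (0, 0), (0, 0), (1, -1), (0, 0), (1, -1), (1, -1), (0, 0), (1, -1), (0, 0), (0, 0), (0, 0),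
  (0, 0), (0, 0), (-1, 1), (1, -1), (0, 0), (0, 0), (1, -1), (0, 0), (1, -1), (0, 0), (0, 0),
  (1, -1), (0, 0), (0, 0), (1, -1), (0, 0), (1, -1), (0, 0), (0, 0), (1, -1), (0, 0), (1, -1),
  (1, -1), (0, 0), (1, -1), (0, 0), (1, -1), (0, 0), (0, 0), (1, -1), (0, 0), (1, -1), (1, -1),
  (0, 0), (1, -1), (0, 0), (1, -1), (1, -1), (0, 0), (1, -1), (1, -1), (0, 0), (1, -1), (0, 0),
  (1, -1), (1, -1), (0, 0), (2, -2), (1, -1), (1, -1), (1, -1), (1, -1), (1, -1), (1, -1)]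

/-- the pairs of inner products -/
def TE8 (i : Fin 5) : List (ℤ × ℤ) := ![TE8_0, TE8_1, TE8_2, TE8_3, TE8_4] i

theorem sym_E8 : ∀ i j : Fin 8, cartanOf Cfsg.Lie.chevE8 8 i j = cartanOf Cfsg.Lie.chevE8 8 j i := by
  decide +kernel

theorem inj_E8 (y : Fin 8 → ℤ) (hy : ∀ j, pairing (cartanOf Cfsg.Lie.chevE8 8) j y = 0) : y = 0 :=
  inj_of_inverse BE8 1 (by norm_num) (by
    intro i k
    simp only [cartan_E8]
    revert i k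
    decide +kernel) y hy

theorem star_E8 {W : Type*} [Group W] [Fintype W] (cs : CoxeterSystem CoxeterMatrix.E₈ W) :
    Star (WJ cs {i : Fin 8 | dc 2559084680 i = 0}) := by
  refine star_list isCartan_E8 sym_E8 LE8 2559084680 (fun i => aE8 i) [92, 136, 182, 270, 220, 168, 114, 58]
    (by decide +kernel) (by decide +kernel) (by decide +kernel) (by
      intro n hn i j
      rw [cartan_E8]
      revert n
      revert i j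
      decide +kernel) (by decide +kernel) (by decide +kernel) (by decide +kernel) cs
    (parity_E8 cs).2 [2, 3, 4, 6, 5, 4, 3, 2] xE8 kE8 (by decide +kernel) (by
      intro j
      unfold pairing
      simp only [cartan_E8]
      revert j
      decide +kernel) (by
      intro i j
      unfold pairing
      simp only [cartan_E8]
      revert i j
      decide +kernel) ![2, 1, 0, -1, -2] (by decide +kernel) (by decide +kernel) inj_E8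
    TE8 ?_ (tbl 1329248376415213638410263460705206273) ?_ ![1, 0, 0, 0, 1] (by decide +kernel) (nil_of_bits (by decide +kernel))
  · intro i
    fin_cases i <;> decide +kernel
  · decide +kernel

end Cfsg.Agent.H694.EB
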