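import Cfsg.Agent.H694.EB.Star
import Cfsg.Agent.H694.CoxExc

/-!
# The nilpotency condition for the Coxeter group of type `F₄`
-/

set_option autoImplicit false
set_option maxRecDepth 100000

namespace Cfsg.Agent.H694.EB

open Cfsg.Agent.ChevalleyStructure.CoxeterGeom Cfsg.Agent.Tits.Core Cfsg.Agent.H694
open Cfsg.Agent.ChevalleyStructure.CoxeterGeomTypes

/-- the target group -/
abbrev T36 : Type := Equiv.Perm (Fin 3) × Equiv.Perm (Fin 3)

/-- the images of the generators -/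
def gF4 (i : Fin 4) : T36 :=
  match i with
  | 0 => (Equiv.swap 0 1, 1)
  | 1 => (Equiv.swap 1 2, 1)
  | 2 => (1, Equiv.swap 0 1)
  | 3 => (1, Equiv.swap 1 2)

theorem isLiftable_F4 : CoxeterMatrix.F₄.IsLiftable gF4 := by
  unfold CoxeterMatrix.IsLiftable
  decide

theorem perm3 : ∀ σ : Equiv.Perm (Fin 3), σ = 1 ∨ σ = Equiv.swap 0 1 ∨ σ = Equiv.swap 1 2 ∨
    σ = Equiv.swap 0 1 * Equiv.swap 1 2 ∨ σ = Equiv.swap 1 2 * Equiv.swap 0 1 ∨
    σ = Equiv.swap 0 1 * Equiv.swap 1 2 * Equiv.swap 0 1 := by decide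

/-- commutators with a generator give three-cycles -/
theorem comm3 : ∀ a : Equiv.Perm (Fin 3), a ≠ 1 →
    (a * Equiv.swap 0 1 * a⁻¹ * (Equiv.swap 0 1)⁻¹ = Equiv.swap 0 1 * Equiv.swap 1 2 ∨
      a * Equiv.swap 0 1 * a⁻¹ * (Equiv.swap 0 1)⁻¹ = (Equiv.swap 0 1 * Equiv.swap 1 2)⁻¹) ∨
    (a * Equiv.swap 1 2 * a⁻¹ * (Equiv.swap 1 2)⁻¹ = Equiv.swap 0 1 * Equiv.swap 1 2 ∨
      a * Equiv.swap 1 2 * a⁻¹ * (Equiv.swap 1 2)⁻¹ = (Equiv.swap 0 1 * Equiv.swap 1 2)⁻¹) := by
  decide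

/-- A subgroup generated by two involutions whose product has order dividing four. -/
theorem isPGroup_closure {G : Type*} [Group G] {a b : G} (ha : a * a = 1) (hb : b * b = 1)
    (hab : (a * b) ^ 4 = 1) : IsPGroup 2 (Subgroup.closure ({a, b} : Set G)) := by
  have hpa : IsPGroup 2 (Subgroup.zpowers a) := by
    rintro ⟨_, k, rfl⟩
    refine ⟨1, Subtype.ext ?_⟩
    show (a ^ k) ^ 2 ^ 1 = 1
    rw [pow_one, ← zpow_natCast, ← zpow_mul, mul_comm, zpow_mul, zpow_natCast, pow_two, ha, one_zpow]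
  have hpr : IsPGroup 2 (Subgroup.zpowers (a * b)) := by
    rintro ⟨_, k, rfl⟩
    refine ⟨2, Subtype.ext ?_⟩
    show ((a * b) ^ k) ^ 2 ^ 2 = 1
    rw [← zpow_natCast, ← zpow_mul, mul_comm, zpow_mul, zpow_natCast]
    show ((a * b) ^ 4) ^ k = 1
    rw [hab, one_zpow]
  have hai : a⁻¹ = a := inv_eq_of_mul_eq_one_left ha
  have hbi : b⁻¹ = b := inv_eq_of_mul_eq_one_left hb
  have hnor : Subgroup.zpowers a ≤ Subgroup.normalizer (Subgroup.zpowers (a * b) : Set G) := by
    rw [Subgroup.zpowers_le, Subgroup.mem_normalizer_iff]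
    have h1 : ∀ x, x ∈ Subgroup.zpowers (a * b) → a * x * a⁻¹ ∈ Subgroup.zpowers (a * b) := by
      rintro _ ⟨k, rfl⟩
      refine ⟨-k, ?_⟩
      show (a * b) ^ (-k) = a * (a * b) ^ k * a⁻¹
      rw [← conj_zpow, zpow_neg, ← inv_zpow, mul_inv_rev, hbi, ← mul_assoc a a b, ha, one_mul]
    intro x
    refine ⟨h1 x, fun h => ?_⟩
    have h2 := h1 _ h
    rw [hai] at h2
    have h3 : a * (a * x * a) * a = x := by
      have : a * (a * x * a) * a = (a * a) * x * (a * a) := by group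
      rw [this, ha, one_mul, mul_one]
    rwa [h3] at h2
  refine (IsPGroup.to_sup_of_normal_right' hpa hpr hnor).to_le ?_
  rw [Subgroup.closure_le]
  rintro x (rfl | rfl)
  · exact Subgroup.mem_sup_left (Subgroup.mem_zpowers _)
  · have h3 : a * (a * x) ∈ Subgroup.zpowers a ⊔ Subgroup.zpowers (a * x) :=
      mul_mem (Subgroup.mem_sup_left (Subgroup.mem_zpowers _))
        (Subgroup.mem_sup_right (Subgroup.mem_zpowers _))
    rwa [← mul_assoc, ha, one_mul] at h3

variable {W : Type*} [Group W] (cs : CoxeterSystem CoxeterMatrix.F₄ W)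

/-- the homomorphism -/
def homF4 : W →* T36 := cs.lift ⟨gF4, isLiftable_F4⟩

theorem homF4_simple (i : Fin 4) : homF4 cs (cs.simple i) = gF4 i := by
  rw [homF4, cs.lift_apply_simple]

theorem homF4_surjective : Function.Surjective (homF4 cs) := by
  rw [← MonoidHom.range_eq_top, eq_top_iff]
  rintro ⟨σ, τ⟩ -
  have hg : ∀ i, gF4 i ∈ (homF4 cs).range := fun i => ⟨cs.simple i, homF4_simple cs i⟩
  have h1 : ((σ, 1) : T36) ∈ (homF4 cs).range := by
    have h0 := hg 0
    have h1 := hg 1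
    rcases perm3 σ with rfl | rfl | rfl | rfl | rfl | rfl
    · exact one_mem _
    · exact h0
    · exact h1
    · exact mul_mem h0 h1
    · exact mul_mem h1 h0
    · exact mul_mem (mul_mem h0 h1) h0
  have h2 : ((1, τ) : T36) ∈ (homF4 cs).range := by
    have h0 := hg 2
    have h1 := hg 3
    rcases perm3 τ with rfl | rfl | rfl | rfl | rfl | rfl
    · exact one_mem _
    · exact h0
    · exact h1
    · exact mul_mem h0 h1
    · exact mul_mem h1 h0
    · exact mul_mem (mul_mem h0 h1) h0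
  have h3 : ((σ, τ) : T36) = (σ, 1) * (1, τ) := by
    rw [Prod.mk_mul_mk, mul_one, one_mul]
  rw [h3]
  exact mul_mem h1 h2

theorem isPGroup_ker [Finite W] : IsPGroup 2 (homF4 cs).ker := by
  have : Fact (Nat.Prime 2) := ⟨Nat.prime_two⟩
  have hset : {i : Fin 4 | dc 39049 i = 0} = {1, 2} := by
    ext i
    show dc 39049 i = 0 ↔ i = 1 ∨ i = 2
    revert i
    decide
  have h1 := (parity_F4 cs).1
  rw [hset] at h1
  have h2 : IsPGroup 2 (WJ cs {1, 2}) := by
    unfold WJ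
    rw [Set.image_pair]
    refine isPGroup_closure (cs.simple_mul_simple_self _) (cs.simple_mul_simple_self _) ?_
    have h3 := cs.simple_mul_simple_pow 1 2
    exact h3
  obtain ⟨k, hk⟩ := IsPGroup.iff_card.1 h2
  have h3 := Subgroup.card_mul_index (WJ cs {1, 2})
  rw [h1, hk] at h3
  have h4 := Subgroup.card_mul_index (homF4 cs).ker
  have h5 : (homF4 cs).ker.index = 36 := by
    rw [Subgroup.index_ker, MonoidHom.range_eq_top.2 (homF4_surjective cs)]
    rw [Nat.card_congr Subgroup.topEquiv.toEquiv, Nat.card_eq_fintype_card]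
    decide
  rw [h5] at h4
  refine IsPGroup.iff_card.2 ⟨k + 2, ?_⟩
  have h6 : Nat.card (homF4 cs).ker * 36 = 2 ^ k * 144 := by rw [h4, h3]
  rw [pow_add]
  omega

/-- An element of the kernel-centralizer of order three modulo the kernel. -/
theorem commute_of_class [Finite W] (O : Subgroup W) [O.Normal] (hO : IsPGroup 2 O) {w r : W}
    (hw : w ∈ Subgroup.centralizer (O : Set W)) (hr : r ^ 3 = 1)
    (hwr : w⁻¹ * r ∈ O) : r ∈ Subgroup.centralizer (O : Set W) := by
  rw [Subgroup.mem_centralizer_iff] at hw ⊢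
  set u : W := w⁻¹ * r with hu
  have hru : r = w * u := by rw [hu, mul_inv_cancel_left]
  -- conjugation by `r` is conjugation by `u`
  have h1 : ∀ o ∈ O, r * o * r⁻¹ = u * o * u⁻¹ := by
    intro o ho
    have h2 : u * o * u⁻¹ ∈ O := mul_mem (mul_mem hwr ho) (inv_mem hwr)
    have h3 := hw _ h2
    rw [hru, mul_inv_rev]
    have h4 : w * u * o * (u⁻¹ * w⁻¹) = w * (u * o * u⁻¹) * w⁻¹ := by group
    rw [h4, ← h3, mul_inv_cancel_right]
  have h2 : ∀ o ∈ O, u ^ 3 * o * (u ^ 3)⁻¹ = o := by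
    intro o ho
    have e1 := h1 o ho
    have m1 : r * o * r⁻¹ ∈ O := ‹O.Normal›.conj_mem _ ho r
    have e2 := h1 _ m1
    have m2 : r * (r * o * r⁻¹) * r⁻¹ ∈ O := ‹O.Normal›.conj_mem _ m1 r
    have e3 := h1 _ m2
    have e4 : r * (r * (r * o * r⁻¹) * r⁻¹) * r⁻¹ = o := by
      have : r * (r * (r * o * r⁻¹) * r⁻¹) * r⁻¹ = r ^ 3 * o * (r ^ 3)⁻¹ := by
        simp only [pow_succ, pow_zero, one_mul, mul_inv_rev, mul_assoc]
      rw [this, hr, one_mul, inv_one, mul_one]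
    calc u ^ 3 * o * (u ^ 3)⁻¹ = u * (u * (u * o * u⁻¹) * u⁻¹) * u⁻¹ := by
          simp only [pow_succ, pow_zero, one_mul, mul_inv_rev, mul_assoc]
      _ = u * (u * (r * o * r⁻¹) * u⁻¹) * u⁻¹ := by rw [e1]
      _ = u * (r * (r * o * r⁻¹) * r⁻¹) * u⁻¹ := by rw [e2]
      _ = o := by rw [← e3, e4]
  obtain ⟨k, hk⟩ := hO ⟨u, hwr⟩
  have hk' : u ^ 2 ^ k = 1 := congrArg Subtype.val hk
  have hcop : Nat.Coprime 3 (orderOf u) := by
    refine Nat.Coprime.coprime_dvd_right (orderOf_dvd_of_pow_eq_one hk') ?_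
    exact (by norm_num : Nat.Coprime 3 2).pow_right k
  obtain ⟨m, hm⟩ := exists_pow_eq_self_of_coprime hcop
  intro o ho
  have h3 : Commute (u ^ 3) o := mul_inv_eq_iff_eq_mul.1 (h2 o ho)
  have h4 : Commute u o := by
    have := h3.pow_left m
    rwa [hm] at this
  have h5 := h1 o ho
  rw [h4.eq, mul_inv_cancel_right] at h5
  exact (mul_inv_eq_iff_eq_mul.1 h5).symm

/-- the images of a vector under two words -/
theorem compute_F4 (a b : Fin 4) (hab : a = 0 ∧ b = 1 ∨ a = 2 ∧ b = 3) :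
    (refl (cartanOf Cfsg.Lie.chevF4 4) a) ((refl (cartanOf Cfsg.Lie.chevF4 4) b)
      ((refl (cartanOf Cfsg.Lie.chevF4 4) 1) ((refl (cartanOf Cfsg.Lie.chevF4 4) 2)
      ((refl (cartanOf Cfsg.Lie.chevF4 4) 1) ((refl (cartanOf Cfsg.Lie.chevF4 4) 2)
        (Pi.single a 1)))))) ≠
    (refl (cartanOf Cfsg.Lie.chevF4 4) 1) ((refl (cartanOf Cfsg.Lie.chevF4 4) 2)
      ((refl (cartanOf Cfsg.Lie.chevF4 4) 1) ((refl (cartanOf Cfsg.Lie.chevF4 4) 2)
      ((refl (cartanOf Cfsg.Lie.chevF4 4) a) ((refl (cartanOf Cfsg.Lie.chevF4 4) b)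
        (Pi.single a 1)))))) := by
  intro h
  have h1 := congrFun h 0
  have h2 := congrFun h 1
  have h3 := congrFun h 2
  have h4 := congrFun h 3
  revert h1 h2 h3 h4
  simp only [refl_apply]
  clear h
  revert hab
  revert a b
  decide +kernel

theorem not_commute (a b : Fin 4) (hab : a = 0 ∧ b = 1 ∨ a = 2 ∧ b = 3) :
    cs.simple a * cs.simple b * (cs.simple 1 * cs.simple 2 * (cs.simple 1 * cs.simple 2)) ≠
      cs.simple 1 * cs.simple 2 * (cs.simple 1 * cs.simple 2) * (cs.simple a * cs.simple b) := by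
  intro h
  apply compute_F4 a b hab
  have h1 := congrArg (fun w => rep cs isCartan_F4 w (Pi.single a 1)) h
  simp only [rep_mul_apply, rep_simple] at h1
  exact h1

include cs in
theorem star_F4 [Fintype W] (H : Subgroup W) : Star H := by
  refine star_of_constrained (homF4 cs).ker (isPGroup_ker cs) ?_ H
  set O := (homF4 cs).ker with hO
  set C := Subgroup.centralizer (O : Set W) with hC
  have hnor : ∀ (g w : W), w ∈ C → g * w * g⁻¹ ∈ C := by
    intro g w hw
    rw [hC, Subgroup.mem_centralizer_iff] at hw ⊢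
    intro o ho
    have h1 := hw (g⁻¹ * o * g) (by
      have := (inferInstance : O.Normal).conj_mem o ho g⁻¹
      rwa [inv_inv] at this)
    have h2 : o * (g * w * g⁻¹) = g * ((g⁻¹ * o * g) * w) * g⁻¹ := by group
    rw [h2, h1]
    group
  -- the element `(s₁ s₂)²`
  have hz : cs.simple 1 * cs.simple 2 * (cs.simple 1 * cs.simple 2) ∈ O := by
    rw [hO, MonoidHom.mem_ker]
    simp only [map_mul, homF4_simple]
    decide
  have hnot : ∀ a b : Fin 4, (a = 0 ∧ b = 1 ∨ a = 2 ∧ b = 3) → cs.simple a * cs.simple b ∉ C := by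
    intro a b hab h
    rw [hC, Subgroup.mem_centralizer_iff] at h
    exact not_commute cs a b hab (h _ hz).symm
  have hfin : ∀ a b : Fin 4, (a = 0 ∧ b = 1 ∨ a = 2 ∧ b = 3) → ∀ w ∈ C, ∀ i : Fin 4,
      (homF4 cs (w * cs.simple i * w⁻¹ * (cs.simple i)⁻¹) = homF4 cs (cs.simple a * cs.simple b) ∨
      homF4 cs (w * cs.simple i * w⁻¹ * (cs.simple i)⁻¹) = homF4 cs (cs.simple a * cs.simple b)⁻¹) →
      False := by
    intro a b hab w hw i h
    have hc : w * cs.simple i * w⁻¹ * (cs.simple i)⁻¹ ∈ C := by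
      have h1 := mul_mem hw (hnor (cs.simple i) _ (inv_mem hw))
      have h2 : w * cs.simple i * w⁻¹ * (cs.simple i)⁻¹ =
        w * (cs.simple i * w⁻¹ * (cs.simple i)⁻¹) := by group
      rwa [h2]
    have hr : (cs.simple a * cs.simple b) ^ 3 = 1 := by
      have h3 := cs.simple_mul_simple_pow a b
      rcases hab with ⟨rfl, rfl⟩ | ⟨rfl, rfl⟩
      · exact h3
      · exact h3
    rcases h with h | h
    · refine hnot a b hab (commute_of_class O (isPGroup_ker cs) hc hr ?_)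
      rw [hO, MonoidHom.mem_ker, map_mul, map_inv, h, inv_mul_cancel]
    · refine hnot a b hab ?_
      have h4 := commute_of_class O (isPGroup_ker cs) hc (r := (cs.simple a * cs.simple b)⁻¹)
        (by rw [inv_pow, hr, inv_one]) (by
          rw [hO, MonoidHom.mem_ker, map_mul, map_inv, h, inv_mul_cancel])
      have := inv_mem h4
      rwa [inv_inv] at this
  intro w hw
  rw [hO, MonoidHom.mem_ker]
  by_contra hcon
  have hcase : (homF4 cs w).1 ≠ 1 ∨ (homF4 cs w).2 ≠ 1 := by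
    by_contra h
    push Not at h
    exact hcon (Prod.ext h.1 h.2)
  have hi : ∀ (i : Fin 4) , homF4 cs (w * cs.simple i * w⁻¹ * (cs.simple i)⁻¹) =
      homF4 cs w * gF4 i * (homF4 cs w)⁻¹ * (gF4 i)⁻¹ := by
    intro i
    simp only [map_mul, map_inv, homF4_simple]
  have hr : ∀ a b : Fin 4, homF4 cs (cs.simple a * cs.simple b) = gF4 a * gF4 b := by
    intro a b
    rw [map_mul, homF4_simple, homF4_simple]
  rcases hcase with h | h
  · rcases comm3 _ h with h1 | h1
    · refine hfin 0 1 (Or.inl ⟨rfl, rfl⟩) w hw 0 ?_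
      rw [hi, map_inv, hr]
      refine h1.imp (fun h2 => Prod.ext h2 ?_) (fun h2 => Prod.ext h2 ?_)
      · simp [gF4]
      · simp [gF4]
    · refine hfin 0 1 (Or.inl ⟨rfl, rfl⟩) w hw 1 ?_
      rw [hi, map_inv, hr]
      refine h1.imp (fun h2 => Prod.ext h2 ?_) (fun h2 => Prod.ext h2 ?_)
      · simp [gF4]
      · simp [gF4]
  · rcases comm3 _ h with h1 | h1
    · refine hfin 2 3 (Or.inr ⟨rfl, rfl⟩) w hw 2 ?_
      rw [hi, map_inv, hr]
      refine h1.imp (fun h2 => Prod.ext ?_ h2) (fun h2 => Prod.ext ?_ h2)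
      · simp [gF4]
      · simp [gF4]
    · refine hfin 2 3 (Or.inr ⟨rfl, rfl⟩) w hw 3 ?_
      rw [hi, map_inv, hr]
      refine h1.imp (fun h2 => Prod.ext ?_ h2) (fun h2 => Prod.ext ?_ h2)
      · simp [gF4]
      · simp [gF4]

end Cfsg.Agent.H694.EB
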