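import Cfsg.Agent.H694.EB.TwoSplit
import Cfsg.Agent.H686.EB.DefZero

/-!
# Characteristic two: (P)

* `inB0_two`: constituents of parabolic permutation characters lie in the principal 2-block;
* `bData_of_splitT_two`, `b2Data_of_splitT_two`, `evenJ_of_splitT`.
-/

set_option autoImplicit false
set_option linter.unusedSectionVars false
set_option linter.style.haveILetI false

namespace Cfsg.Agent.H694.EB

open Cfsg Cfsg.Agent.H694 Cfsg.Agent.H610.EB Cfsg.Agent.H684.EB
open scoped ComplexConjugate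
open Cfsg.Agent.Characters.Core
open Cfsg.Agent.LieExceptional.BNPairCore Cfsg.Agent.Tits.Core
  Cfsg.Agent.Tits.OfBN Cfsg.Agent.Schreier.BNSch Cfsg.Agent.Tits.OppRes Cfsg.Agent.FixBN
  Cfsg.Agent.FixBN.TwOfBN Cfsg.Agent.OddHalf.Table.AutBldg
open Cfsg.Agent.Omega.ML.Ex.Typ (HasSplitT HasRGDT)

universe u

theorem permC_eq_fix (S : Type*) [Group S] (P : Subgroup S) (s : S) :
    permC S (S ⧸ P) s = (Nat.card {x : S ⧸ P // s • x = x} : ℂ) := rfl

section

variable {K : Type u} [Group K] [Finite K] {P : Cfsg.BNPair K}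
variable [hN : ((P.B ⊓ P.N).subgroupOf P.N).Normal]
variable {I : Type*} [Finite I] {M : CoxeterMatrix I} (e : I ≃ P.S) (cs : CoxeterSystem M (WP P))
  (hcs : ∀ i, cs.simple i = QuotientGroup.mk (⟨(e i : K), P.subset (e i).2⟩ : P.N))

include hcs

/-- **The constituents of parabolic permutation characters in characteristic two.** -/
theorem inB0_two {U : Subgroup K} (S : Split P 2 U) (hdz : DZ K) {J : Set I} (hJ : J.Nonempty)
    [Fintype K] : InB0 (cls (PJ P e J)) := by
  intro m hm φ hφ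
  classical
  by_contra hnot
  apply hφ
  haveI : Fintype (K ⧸ PJ P e J) := Fintype.ofFinite _
  haveI : Fact (Nat.Prime 2) := ⟨Nat.prime_two⟩
  have h1 := Cfsg.Agent.H686.EB.DefZero.classInner_eq_zero_of_defectZero hm φ
    (hdz m hm φ hnot).2 (X := K ⧸ PJ P e J) U S.isP (exists_fix e cs hcs S hJ)
  have h2 : permS (cls (PJ P e J)) = permC K (K ⧸ PJ P e J) := by
    funext s
    rw [permS_cls (normalizer_PJ e J)]
    rfl
  rw [h2, mu, h1]
  simp

theorem index_odd {U : Subgroup K} (S : Split P 2 U) (J : Set I) : Odd (PJ P e J).index := by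
  haveI : Fact (Nat.Prime 2) := ⟨Nat.prime_two⟩
  have h1 : P.B.index % 2 = 1 := OfBN.card_modEq S
  exact Odd.of_dvd_nat (Nat.odd_iff.2 h1) (Subgroup.index_dvd_of_le (B_le_PJ e J))

end

/-- **Characteristic two, one class.** -/
theorem bData_of_splitT_two {I : Type*} [Finite I] {M : CoxeterMatrix I} {K : Type u} [Group K]
    [Finite K] (hK : HasSplitT 2 M K) (hdz : DZ K) (J : Set I) (hJ0 : J.Nonempty)
    (hJ : ∀ σ : I ≃ I, (∀ i j, M (σ i) (σ j) = M i j) → σ '' J = J)
    (heven : ∀ (W : Type u) [Group W] [Finite W] (cs : CoxeterSystem M W),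
      Even (Nat.card (DoubleCoset.Quotient (WJ cs J : Set W) (WJ cs J : Set W)))) : BData K := by
  obtain ⟨P, U, e, S, hN, cs, hcs⟩ := hK
  haveI : Fact (Nat.Prime 2) := ⟨Nat.prime_two⟩
  refine ⟨cls (PJ P e J), ?_, ?_, ?_⟩
  · intro α
    obtain ⟨σ, hσ, h⟩ := exists_type_perm e cs hcs S α
    obtain ⟨g, hg⟩ := h J
    rw [hJ σ hσ] at hg
    rintro _ ⟨t, rfl⟩
    refine ⟨α t * g, ?_⟩
    rw [← map_conj_conj, ← hg, Subgroup.map_map, Subgroup.map_map]
    congr 1
    ext x
    simp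
  · rw [card_cls (normalizer_PJ e J), card_pairRel (normalizer_PJ e J) (normalizer_PJ e J),
      card_double e cs hcs]
    exact (index_odd e cs hcs S J).add_even (heven (WP P) cs)
  · intro _
    exact inB0_two e cs hcs S hdz hJ0

/-- **Characteristic two, two classes.** -/
theorem b2Data_of_splitT_two {I : Type*} [Finite I] {M : CoxeterMatrix I} {K : Type u} [Group K]
    [Finite K] (hK : HasSplitT 2 M K) (hdz : DZ K) (J L : Set I) (hJ0 : J.Nonempty)
    (hJL : J ≠ L)
    (hJ : ∀ σ : I ≃ I, (∀ i j, M (σ i) (σ j) = M i j) →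
      (σ '' J = J ∧ σ '' L = L) ∨ (σ '' J = L ∧ σ '' L = J))
    (heven : ∀ (W : Type u) [Group W] [Finite W] (cs : CoxeterSystem M W),
      Even (Nat.card (DoubleCoset.Quotient (WJ cs J : Set W) (WJ cs J : Set W))))
    (hodd' : ∀ (W : Type u) [Group W] [Finite W] (cs : CoxeterSystem M W),
      Odd (Nat.card (DoubleCoset.Quotient (WJ cs J : Set W) (WJ cs L : Set W)))) :
    B2Data K := by
  obtain ⟨P, U, e, S, hN, cs, hcs⟩ := hK
  haveI : Fact (Nat.Prime 2) := ⟨Nat.prime_two⟩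
  have hmap : ∀ (α : K ≃* K) (A B : Subgroup K),
      (∃ g : K, A.map α.toMonoidHom = B.map (MulAut.conj g).toMonoidHom) →
      ∀ H ∈ cls A, H.map α.toMonoidHom ∈ cls B := by
    rintro α A B ⟨g, hg⟩ _ ⟨t, rfl⟩
    refine ⟨α t * g, ?_⟩
    rw [← map_conj_conj, ← hg, Subgroup.map_map, Subgroup.map_map]
    congr 1
    ext x
    simp
  refine ⟨cls (PJ P e J), cls (PJ P e L), ?_, ⟨_, 1, rfl⟩, fun g H hH => conj_mem_cls hH g,
    ?_, ?_, ?_, ?_⟩
  · rw [Set.disjoint_left]
    rintro H ⟨g, rfl⟩ ⟨t, ht⟩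
    have h1 : (PJ P e J).map (MulAut.conj (t⁻¹ * g)).toMonoidHom = PJ P e L := by
      rw [← map_conj_conj, ← ht, map_conj_conj, inv_mul_cancel, map_conj_one]
    have h2 := Cfsg.Agent.S0313.result P (PJ_sub e J) (PJ_sub e L) _ h1
    have h3 := Cfsg.Agent.S0314.result P (PJ_sub e J) (PJ_sub e L) h2
    have hinj : Function.Injective (fun i => (e i : K)) := fun i j h =>
      e.injective (Subtype.ext h)
    exact hJL (hinj.image_injective h3)
  · intro α
    obtain ⟨σ, hσ, h⟩ := exists_type_perm e cs hcs S α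
    obtain ⟨g, hg⟩ := h J
    obtain ⟨t, ht⟩ := h L
    rcases hJ σ hσ with ⟨h1, h2⟩ | ⟨h1, h2⟩
    · rw [h1] at hg
      rw [h2] at ht
      exact Or.inl ⟨hmap α _ _ ⟨g, hg⟩, hmap α _ _ ⟨t, ht⟩⟩
    · rw [h1] at hg
      rw [h2] at ht
      exact Or.inr ⟨hmap α _ _ ⟨g, hg⟩, hmap α _ _ ⟨t, ht⟩⟩
  · rw [card_cls (normalizer_PJ e J), card_pairRel (normalizer_PJ e J) (normalizer_PJ e J),
      card_double e cs hcs]
    exact (index_odd e cs hcs S J).add_even (heven (WP P) cs)
  · rw [card_pairRel (normalizer_PJ e J) (normalizer_PJ e J),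
      card_pairRel (normalizer_PJ e J) (normalizer_PJ e L), card_double e cs hcs,
      card_double e cs hcs]
    exact (heven (WP P) cs).add_odd (hodd' (WP P) cs)
  · intro _
    exact inB0_two e cs hcs S hdz hJ0

/-- **[U3] Characteristic two.** -/
theorem evenJ_of_splitT {I : Type*} [Finite I] {M : CoxeterMatrix I} {K : Type u} [Group K]
    [Finite K] (hK : HasSplitT 2 M K) (hdz : DZ K) (J : Set I) (hJ0 : J.Nonempty)
    (hJ : ∀ σ : I ≃ I, (∀ i j, M (σ i) (σ j) = M i j) → σ '' J = J)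
    (heven : ∀ (W : Type u) [Group W] [Finite W] (cs : CoxeterSystem M W),
      Even (Nat.card (DoubleCoset.Quotient (WJ cs J : Set W) (WJ cs J : Set W)))) : EvenJ K :=
  evenJ_of_bData (bData_of_splitT_two hK hdz J hJ0 hJ heven)

end Cfsg.Agent.H694.EB
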