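import Cfsg.Agent.H694.EB.Data
import Cfsg.Agent.H611.EB.Odd
import Cfsg.Agent.H610.EB.CycSub
import Cfsg.Agent.H684.EB.Base

/-!
# `EvenJ` from parity data

* `concl_of_bData`, `concl_of_b2Data`: the conclusion from `BData N`, `B2Data N`;
* `evenJ_of_bData`, `evenJ_of_b2Data`;
* `BData.of_equiv`.
-/

set_option autoImplicit false
set_option linter.unusedSectionVars false
set_option linter.style.haveILetI false

namespace Cfsg.Agent.H694.EB

open Cfsg Cfsg.Agent.H694 Cfsg.Agent.H610.EB Cfsg.Agent.H684.EB Cfsg.Agent.H611.EB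
open scoped ComplexConjugate
open Cfsg.Agent.Characters.Core
open Cfsg.Agent.OddOrderCharacters.PF9.CliffGen (resTo irr_ind)

universe u

section

variable {G : Type u} [Group G] [Fintype G] {M : Ideal AlgInt} {k : ℕ}
variable (N J : Subgroup G) [hN : N.Normal] [hJ : J.Normal] [Fintype N] (hNJ : N ≤ J)

include hNJ

/-- The conclusion from one invariant set of subgroups. -/
theorem concl_of_inv_set (hM : IsPModular 2 M) (hodd : Odd (N.relIndex J))
    (hidx : ∃ j : ℕ, J.index = 2 ^ j) (hk : IsK G k) (𝒳 : Set (Subgroup N))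
    (hX : ∀ g : G, ∀ H ∈ 𝒳, cmap N g H ∈ 𝒳)
    (hp : Odd (Nat.card 𝒳 + Nat.card (Quotient (pairRel 𝒳 𝒳)))) (hin : InB0 𝒳) :
    Concl M G N k := by
  classical
  haveI : Fintype J := Fintype.ofFinite _
  letI := actSet N 𝒳 hX
  haveI : Finite 𝒳 := Subtype.finite
  have hXS : ∀ g : N, ∀ H ∈ 𝒳, H.map (MulAut.conj g).toMonoidHom ∈ 𝒳 := by
    intro g H hH
    rw [← cmap_coe]
    exact hX _ _ hH
  have hres : (fun s : N => permC G 𝒳 (s : G)) = permS 𝒳 := by
    funext s
    exact permC_restrict N 𝒳 hX s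
  refine of_parity_odd N J hNJ hM hodd hidx hk (π := permC G 𝒳) (GC.of_rchar (rchar_perm 𝒳))
    (fun t => by
      show (Nat.card (MulAction.fixedBy 𝒳 (t ^ k)) : ℂ) = _
      rw [fixedBy_pow hk]
      rfl) ?_ (a := (Nat.card (Quotient (pairRel 𝒳 𝒳)) : ℤ)) (b := (Nat.card 𝒳 : ℤ)) ?_ ?_ ?_
  · intro φ _ h1
    rw [hres] at h1
    refine hin M hM φ ?_
    intro h2
    rw [h2] at h1
    exact absurd h1 (by decide)
  · rw [hres, classInner_permS 𝒳 𝒳 hXS hXS]
    push_cast
    rfl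
  · have h1 := permC_restrict N 𝒳 hX 1
    rw [permS_one] at h1
    rw [Subgroup.coe_one] at h1
    rw [h1]
    push_cast
    rfl
  · rw [add_comm]
    exact_mod_cast hp

theorem concl_of_bData (hM : IsPModular 2 M) (hodd : Odd (N.relIndex J))
    (hidx : ∃ j : ℕ, J.index = 2 ^ j) (hk : IsK G k) (h : BData N) : Concl M G N k := by
  obtain ⟨𝒳, hα, hp, hin⟩ := h
  exact concl_of_inv_set N J hNJ hM hodd hidx hk 𝒳 (fun g => hα _) hp hin

/-- **The conclusion from two classes of subgroups permuted by `G`**, chain version. -/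
theorem concl_of_two_odd (hM : IsPModular 2 M) (hodd : Odd (N.relIndex J))
    (hidx : ∃ j : ℕ, J.index = 2 ^ j) (hk : IsK G k) (𝒳 𝒴 : Set (Subgroup N))
    (hdis : Disjoint 𝒳 𝒴) (hne : 𝒳.Nonempty)
    (hXN : ∀ g : N, ∀ H ∈ 𝒳, H.map (MulAut.conj g).toMonoidHom ∈ 𝒳)
    (hα' : ∀ g : G, ((∀ H ∈ 𝒳, cmap N g H ∈ 𝒳) ∧ (∀ H ∈ 𝒴, cmap N g H ∈ 𝒴)) ∨
      ((∀ H ∈ 𝒳, cmap N g H ∈ 𝒴) ∧ (∀ H ∈ 𝒴, cmap N g H ∈ 𝒳)))
    (hall : ¬ ∀ g : G, ∀ H ∈ 𝒳, cmap N g H ∈ 𝒳)
    (hmem : ∀ φ : IrrCharacter N, Odd (mu (permS 𝒳) (φ : N → ℂ)) →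
      Even (mu (permS 𝒴) (φ : N → ℂ)) → φ ∈ principalBlock M N)
    (hodd2 : Odd (Nat.card (Quotient (pairRel 𝒳 𝒳)) + Nat.card (Quotient (pairRel 𝒳 𝒴)))) :
    Concl M G N k := by
  classical
  obtain ⟨H₀, hH₀⟩ := hne
  have hexcl : ∀ H, H ∈ 𝒳 → H ∈ 𝒴 → False := fun H h1 h2 => Set.disjoint_left.1 hdis h1 h2
  push Not at hall
  obtain ⟨g₀, H₁, hH₁, hH₁'⟩ := hall
  have hkeep : ∀ g : G, cmap N g H₀ ∈ 𝒳 → ((∀ H ∈ 𝒳, cmap N g H ∈ 𝒳) ∧ (∀ H ∈ 𝒴, cmap N g H ∈ 𝒴)) := by
    intro g hg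
    rcases hα' g with h | h
    · exact h
    · exact (hexcl _ hg (h.1 _ hH₀)).elim
  have hswap : ∀ g : G, cmap N g H₀ ∉ 𝒳 → ((∀ H ∈ 𝒳, cmap N g H ∈ 𝒴) ∧ (∀ H ∈ 𝒴, cmap N g H ∈ 𝒳)) := by
    intro g hg
    rcases hα' g with h | h
    · exact (hg (h.1 _ hH₀)).elim
    · exact h
  let D : Subgroup G :=
    { carrier := {g | cmap N g H₀ ∈ 𝒳}
      one_mem' := by
        show cmap N 1 H₀ ∈ 𝒳
        rw [cmap_one]
        exact hH₀
      mul_mem' := by
        intro a b ha hb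
        show cmap N (a * b) H₀ ∈ 𝒳
        rw [cmap_mul]
        exact (hkeep a ha).1 _ hb
      inv_mem' := by
        intro a ha
        show cmap N a⁻¹ H₀ ∈ 𝒳
        by_contra h3
        have h4 := (hkeep a ha).2 _ ((hswap _ h3).1 H₀ hH₀)
        rw [← cmap_mul, mul_inv_cancel, cmap_one] at h4
        exact hexcl _ hH₀ h4 }
  have hmemD : ∀ g, g ∈ D ↔ cmap N g H₀ ∈ 𝒳 := fun g => Iff.rfl
  have hg₀ : g₀ ∉ D := by
    intro h
    exact hH₁' ((hkeep g₀ h).1 _ hH₁)
  have hD : D.index = 2 := by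
    rw [Subgroup.index_eq_two_iff]
    refine ⟨g₀, fun b => ?_⟩
    by_cases hb : b ∈ D
    · refine Or.inr ⟨hb, fun h => ?_⟩
      rw [hmemD, cmap_mul] at h
      exact hexcl _ h ((hkeep b hb).2 _ ((hswap g₀ hg₀).1 _ hH₀))
    · refine Or.inl ⟨?_, hb⟩
      rw [hmemD, cmap_mul]
      exact (hswap b hb).2 _ ((hswap g₀ hg₀).1 _ hH₀)
  haveI : D.Normal := Subgroup.normal_of_index_eq_two hD
  have hND : N ≤ D := by
    intro n hn
    rw [hmemD]
    have := cmap_coe N ⟨n, hn⟩ H₀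
    rw [this]
    exact hXN _ _ hH₀
  have hYN : ∀ g : N, ∀ H ∈ 𝒴, H.map (MulAut.conj g).toMonoidHom ∈ 𝒴 := by
    intro g H hH
    rw [← cmap_coe]
    exact (hkeep (g : G) ((hmemD _).1 (hND g.2))).2 H hH
  haveI : Fintype D := Fintype.ofFinite _
  haveI : Fintype J := Fintype.ofFinite _
  haveI : Finite 𝒳 := Subtype.finite
  -- the action of `D` on `𝒳`
  letI : MulAction D 𝒳 :=
    { smul := fun d H => ⟨cmap N (d : G) H, (hkeep (d : G) ((hmemD _).1 d.2)).1 _ H.2⟩
      one_smul := fun H => Subtype.ext (cmap_one N H)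
      mul_smul := fun a b H => Subtype.ext (cmap_mul N a b H) }
  have hres : resTo hND (permC D 𝒳) = permS 𝒳 := by
    funext s
    show (Nat.card (MulAction.fixedBy 𝒳 (⟨(s : G), hND s.2⟩ : D)) : ℂ) = _
    rw [permS]
    congr 1
    exact Nat.card_congr
      { toFun := fun H => ⟨H.1.1, H.1.2, by
          have h1 : cmap N (s : G) H.1.1 = H.1.1 := congrArg Subtype.val H.2
          rwa [cmap_coe] at h1⟩
        invFun := fun H => ⟨⟨H.1, H.2.1⟩, Subtype.ext (by
          show cmap N (s : G) H.1 = H.1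
          rw [cmap_coe]
          exact H.2.2)⟩
        left_inv := fun H => rfl
        right_inv := fun H => rfl }
  have hsw := hswap g₀ hg₀
  have hsw' : ∀ H ∈ 𝒴, cmap N g₀⁻¹ H ∈ 𝒳 := by
    intro H hH
    rcases hα' g₀⁻¹ with h | h
    · have h1 := h.2 H hH
      have h2 := hsw.2 _ h1
      rw [← cmap_mul, mul_inv_cancel, cmap_one] at h2
      exact (hexcl _ h2 hH).elim
    · exact h.2 H hH
  have hres2 : (fun s : N => resTo hND (permC D 𝒳) (MulAut.conjNormal g₀ s)) = permS 𝒴 := by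
    funext s
    rw [hres, permS, permS]
    congr 1
    have hcomp : ∀ (H : Subgroup N), H.map (MulAut.conj ((MulAut.conjNormal g₀ : MulAut N) s)).toMonoidHom =
        cmap N g₀ ((cmap N g₀⁻¹ H).map (MulAut.conj s).toMonoidHom) := by
      intro H
      have h1 := cmap_coe N ((MulAut.conjNormal g₀ : MulAut N) s) H
      rw [← h1, ← cmap_coe, ← cmap_mul, ← cmap_mul]
      congr 1
    refine Nat.card_congr
      { toFun := fun H => ⟨cmap N g₀⁻¹ H.1, ?_, ?_⟩
        invFun := fun H => ⟨cmap N g₀ H.1, ?_, ?_⟩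
        left_inv := fun H => ?_
        right_inv := fun H => ?_ }
    · rcases hα' g₀⁻¹ with h | h
      · have h1 := h.1 _ H.2.1
        have h2 := hsw.1 _ h1
        rw [← cmap_mul, mul_inv_cancel, cmap_one] at h2
        exact (hexcl _ H.2.1 h2).elim
      · exact h.1 _ H.2.1
    · have h1 := H.2.2
      rw [hcomp] at h1
      have h2 := congrArg (cmap N g₀⁻¹) h1
      rw [← cmap_mul, inv_mul_cancel, cmap_one] at h2
      exact h2
    · exact hsw.2 _ H.2.1
    · rw [hcomp, ← cmap_mul, inv_mul_cancel, cmap_one, H.2.2]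
    · apply Subtype.ext
      show cmap N g₀ (cmap N g₀⁻¹ H.1) = H.1
      rw [← cmap_mul, mul_inv_cancel, cmap_one]
    · apply Subtype.ext
      show cmap N g₀⁻¹ (cmap N g₀ H.1) = H.1
      rw [← cmap_mul, inv_mul_cancel, cmap_one]
  refine of_parity_pair_odd N J hNJ hM hodd hidx hk D hD hND (π := permC D 𝒳) (GC.of_rchar (rchar_perm 𝒳)) ?_ g₀ hg₀
    ?_ (a := (Nat.card (Quotient (pairRel 𝒳 𝒳)) : ℤ)) (b := (Nat.card (Quotient (pairRel 𝒳 𝒴)) : ℤ))
    ?_ ?_ (by exact_mod_cast hodd2)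
  · intro t
    show (Nat.card (MulAction.fixedBy 𝒳 (t ^ k)) : ℂ) = _
    rw [fixedBy_pow (hk.sub D)]
    rfl
  · intro φ h1 h2
    rw [hres2] at h2
    rw [hres] at h1
    exact hmem φ h1 h2
  · rw [hres, classInner_permS 𝒳 𝒳 hXN hXN]
    push_cast
    rfl
  · rw [hres2, hres, classInner_permS 𝒳 𝒴 hXN hYN]
    push_cast
    rfl

theorem concl_of_b2Data (hM : IsPModular 2 M) (hodd : Odd (N.relIndex J))
    (hidx : ∃ j : ℕ, J.index = 2 ^ j) (hk : IsK G k) (h : B2Data N) : Concl M G N k := by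
  obtain ⟨𝒳, 𝒴, hdis, hne, hXN, hα, hp, hp2, hin⟩ := h
  by_cases hall : ∀ g : G, ∀ H ∈ 𝒳, cmap N g H ∈ 𝒳
  · exact concl_of_inv_set N J hNJ hM hodd hidx hk 𝒳 hall hp hin
  · refine concl_of_two_odd N J hNJ hM hodd hidx hk 𝒳 𝒴 hdis hne hXN (fun g => hα _) hall ?_ hp2
    intro φ h1 _
    refine hin M hM φ ?_
    intro h2
    rw [h2] at h1
    exact absurd h1 (by decide)

end

/-- **`EvenJ` from `BData`.** -/
theorem evenJ_of_bData' {S : Type u} [Group S]
    (h : ∀ (T : Type u) [Group T] [Finite T], Nonempty (S ≃* T) → BData T) : EvenJ S :=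
  fun _ _ _ N _ _ f _ J _ hNJ ho hi _ hk _ hM =>
    concl_of_bData N J hNJ hM ho hi hk (h N f)

/-- Transport of `BData`. -/
theorem BData.of_equiv {S T : Type u} [Group S] [Group T] [Finite S] [Finite T] (e : S ≃* T)
    (h : BData S) : BData T := by
  classical
  obtain ⟨𝒳, hα, hp, hin⟩ := h
  let f : Subgroup S ≃ Subgroup T :=
    { toFun := fun H => H.map e.toMonoidHom
      invFun := fun H => H.map e.symm.toMonoidHom
      left_inv := map_map_symm e
      right_inv := map_symm_map e }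
  have hconj : ∀ (s : S) (H : Subgroup S),
      (H.map (MulAut.conj s).toMonoidHom).map e.toMonoidHom =
        (H.map e.toMonoidHom).map (MulAut.conj (e s)).toMonoidHom := by
    intro s H
    rw [Subgroup.map_map, Subgroup.map_map]
    congr 1
    ext x
    simp
  let F : 𝒳 ≃ {H : Subgroup T // H.map e.symm.toMonoidHom ∈ 𝒳} :=
    Equiv.subtypeEquiv f fun H => by
      show H ∈ 𝒳 ↔ (H.map e.toMonoidHom).map e.symm.toMonoidHom ∈ 𝒳
      rw [map_map_symm]
  refine ⟨{H : Subgroup T | H.map e.symm.toMonoidHom ∈ 𝒳}, ?_, ?_, ?_⟩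
  · intro α H hH
    have h1 := hα ((e.trans α).trans e.symm) _ hH
    have h2 : (H.map e.symm.toMonoidHom).map ((e.trans α).trans e.symm).toMonoidHom =
        (H.map α.toMonoidHom).map e.symm.toMonoidHom := by
      rw [Subgroup.map_map, Subgroup.map_map]
      congr 1
      ext x
      simp
    rw [h2] at h1
    exact h1
  · have e1 : Nat.card 𝒳 = Nat.card {H : Subgroup T | H.map e.symm.toMonoidHom ∈ 𝒳} :=
      Nat.card_congr F
    have e2 : Nat.card (Quotient (pairRel 𝒳 𝒳)) =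
        Nat.card (Quotient (pairRel {H : Subgroup T | H.map e.symm.toMonoidHom ∈ 𝒳}
          {H : Subgroup T | H.map e.symm.toMonoidHom ∈ 𝒳})) := by
      refine Nat.card_congr (Quotient.congr (Equiv.prodCongr F F) fun x y => ?_)
      constructor
      · rintro ⟨g, h1, h2⟩
        refine ⟨e g, ?_, ?_⟩
        · show ((x.1 : Subgroup S).map e.toMonoidHom).map (MulAut.conj (e g)).toMonoidHom =
            (y.1 : Subgroup S).map e.toMonoidHom
          rw [← hconj, h1]
        · show ((x.2 : Subgroup S).map e.toMonoidHom).map (MulAut.conj (e g)).toMonoidHom =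
            (y.2 : Subgroup S).map e.toMonoidHom
          rw [← hconj, h2]
      · rintro ⟨g, h1, h2⟩
        obtain ⟨g, rfl⟩ := e.surjective g
        refine ⟨g, ?_, ?_⟩
        · apply f.injective
          have h3 : ((x.1 : Subgroup S).map e.toMonoidHom).map (MulAut.conj (e g)).toMonoidHom =
            (y.1 : Subgroup S).map e.toMonoidHom := h1
          rw [← hconj] at h3
          exact h3
        · apply f.injective
          have h3 : ((x.2 : Subgroup S).map e.toMonoidHom).map (MulAut.conj (e g)).toMonoidHom =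
            (y.2 : Subgroup S).map e.toMonoidHom := h2
          rw [← hconj] at h3
          exact h3
    rw [← e1, ← e2]
    exact hp
  · intro iT m hm φ hφ
    haveI : Fintype S := Fintype.ofFinite S
    have hirr : IsIrrCharacter S (fun s => (φ : T → ℂ) (e s)) :=
      isIrr_comp e.toMonoidHom e.surjective φ.2
    have h1 := hin m hm ⟨fun s => (φ : T → ℂ) (e s), hirr⟩ ?_
    · exact (H611.EB.mem_comp_equiv e φ.2 hirr).1 h1
    · intro h2
      apply hφ
      rw [← h2, mu, mu]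
      congr 2
      have h3 := Cfsg.Agent.H610.EB.classInner_equiv e.toEquiv
        (permS {H : Subgroup T | H.map e.symm.toMonoidHom ∈ 𝒳}) (φ : T → ℂ)
      rw [← h3]
      congr 1
      funext s
      show permS {H : Subgroup T | H.map e.symm.toMonoidHom ∈ 𝒳} (e s) = permS 𝒳 s
      unfold permS
      congr 1
      symm
      refine Nat.card_congr (Equiv.subtypeEquiv f fun H => ?_)
      show (H ∈ 𝒳 ∧ H.map (MulAut.conj s).toMonoidHom = H) ↔
        ((H.map e.toMonoidHom).map e.symm.toMonoidHom ∈ 𝒳 ∧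
          (H.map e.toMonoidHom).map (MulAut.conj (e s)).toMonoidHom = H.map e.toMonoidHom)
      rw [map_map_symm, ← hconj]
      constructor
      · rintro ⟨h4, h5⟩
        exact ⟨h4, by rw [h5]⟩
      · rintro ⟨h4, h5⟩
        exact ⟨h4, f.injective h5⟩

theorem evenJ_of_bData {S : Type u} [Group S] [Finite S] (h : BData S) : EvenJ S :=
  evenJ_of_bData' fun _ _ _ ⟨e⟩ => h.of_equiv e

/-- **`EvenJ` from `B2Data`.** -/
theorem evenJ_of_b2Data' {S : Type u} [Group S]
    (h : ∀ (T : Type u) [Group T] [Finite T], Nonempty (S ≃* T) → B2Data T) : EvenJ S :=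
  fun _ _ _ N _ _ f _ J _ hNJ ho hi _ hk _ hM =>
    concl_of_b2Data N J hNJ hM ho hi hk (h N f)

end Cfsg.Agent.H694.EB
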