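import Mathlib
import Cfsg.Agent.Blocks.NormalPSubgroup
import Cfsg.Agent.Blocks.PCoreNilp

/-!
# The nilpotency condition for the group algebra over the field with two elements

`Star H`: every central element of augmentation zero of the group algebra over `ZMod 2` acts
nilpotently on the permutation module of the subgroup `H`.
-/

set_option autoImplicit false

namespace Cfsg.Agent.H694.EB

variable {W : Type*} [Group W]

/-- the augmentation -/
noncomputable def aug (W : Type*) [Group W] : MonoidAlgebra (ZMod 2) W →ₐ[ZMod 2] ZMod 2 :=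
  MonoidAlgebra.lift (ZMod 2) (ZMod 2) W 1

theorem aug_single (w : W) (a : ZMod 2) : aug W (MonoidAlgebra.single w a) = a := by
  rw [aug, MonoidAlgebra.lift_single]
  simp

theorem aug_eq [Fintype W] (z : MonoidAlgebra (ZMod 2) W) : aug W z = ∑ w, z.coeff w := by
  rw [aug, MonoidAlgebra.lift_apply, Finsupp.sum_fintype]
  · simp
  · simp

open Classical in
/-- the sum of the elements of a subgroup -/
noncomputable def xsum [Fintype W] (H : Subgroup W) : MonoidAlgebra (ZMod 2) W :=
  ∑ w : W, if w ∈ H then MonoidAlgebra.single w 1 else 0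

/-- every central element of augmentation zero acts nilpotently on the permutation module -/
def Star [Fintype W] (H : Subgroup W) : Prop :=
  ∀ z : MonoidAlgebra (ZMod 2) W, (∀ r, z * r = r * z) → aug W z = 0 → ∃ N : ℕ, z ^ N * xsum H = 0

theorem coeff_conj {z : MonoidAlgebra (ZMod 2) W} (hz : ∀ r, z * r = r * z) (u w : W) :
    z.coeff (u * w * u⁻¹) = z.coeff w := by
  have h1 := congrArg (fun x => x.coeff (u * w)) (hz (MonoidAlgebra.single u 1))
  rw [MonoidAlgebra.coeff_mul_single_apply, MonoidAlgebra.coeff_single_mul_apply, mul_one,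
    one_mul, inv_mul_cancel_left] at h1
  exact h1

/-- **The constrained case**: a normal `2`-subgroup containing its centralizer. -/
theorem isNilpotent_of_constrained [Finite W] (O : Subgroup W) [O.Normal] (hO : IsPGroup 2 O)
    (hC : Subgroup.centralizer (O : Set W) ≤ O) (z : MonoidAlgebra (ZMod 2) W)
    (hz : ∀ r, z * r = r * z) (h0 : aug W z = 0) : IsNilpotent z := by
  classical
  have := Fintype.ofFinite W
  have : Fact (Nat.Prime 2) := ⟨Nat.prime_two⟩
  refine Blocks.NormalPSubgroup.isNilpotent_of_mapDomain_eq_zero O hO z hz ?_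
  -- the sum over a coset
  have hsum : ∀ q : W ⧸ O, q ≠ 1 → ∑ w : {w : W // (QuotientGroup.mk w : W ⧸ O) = q}, z.coeff w = 0 := by
    intro q hq
    let act : MulAction O {w : W // (QuotientGroup.mk w : W ⧸ O) = q} :=
      { smul := fun u w => ⟨u * w * (u : W)⁻¹, by
          have h1 : (QuotientGroup.mk ((u : W) * w * (u : W)⁻¹) : W ⧸ O) =
              QuotientGroup.mk (u : W) * QuotientGroup.mk (w : W) * (QuotientGroup.mk (u : W))⁻¹ := by
            rw [← QuotientGroup.mk_mul, ← QuotientGroup.mk_inv, ← QuotientGroup.mk_mul]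
          rw [h1, (QuotientGroup.eq_one_iff (u : W)).2 u.2, one_mul, inv_one, mul_one]
          exact w.2⟩
        one_smul := fun w => Subtype.ext (by
          show ((1 : O) : W) * w * ((1 : O) : W)⁻¹ = w
          simp)
        mul_smul := fun u v w => Subtype.ext (by
          show ((u * v : O) : W) * w * ((u * v : O) : W)⁻¹ = u * (v * w * (v : W)⁻¹) * (u : W)⁻¹
          simp [mul_assoc]) }
    refine Blocks.PCoreNilp.sum_eq_zero_of_no_fixedPoints hO (fun s : ZMod 2 => ?_)
      (fun w : {w : W // (QuotientGroup.mk w : W ⧸ O) = q} => z.coeff w) ?_ ?_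
    · rw [nsmul_eq_mul]
      have h2 : ((2 : ℕ) : ZMod 2) = 0 := rfl
      rw [h2, zero_mul]
    · intro u w
      exact coeff_conj hz u w
    · intro w
      by_contra hcon
      push Not at hcon
      apply hq
      rw [← w.2, QuotientGroup.eq_one_iff]
      apply hC
      rw [Subgroup.mem_centralizer_iff]
      intro u hu
      have h1 : u * w * u⁻¹ = (w : W) := congrArg Subtype.val (hcon ⟨u, hu⟩)
      exact mul_inv_eq_iff_eq_mul.1 h1
  have hfib : ∀ q : W ⧸ O, (MonoidAlgebra.mapDomain (QuotientGroup.mk' O) z).coeff q =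
      ∑ w : {w : W // (QuotientGroup.mk w : W ⧸ O) = q}, z.coeff w := by
    intro q
    have h1 : (MonoidAlgebra.mapDomain (QuotientGroup.mk' O) z).coeff q =
        ∑ w : W, if (QuotientGroup.mk w : W ⧸ O) = q then z.coeff w else 0 := by
      show (Finsupp.mapDomain (QuotientGroup.mk' O) z.coeff) q = _
      rw [Finsupp.mapDomain, Finsupp.sum_fintype, Finsupp.coe_finsetSum, Finset.sum_apply]
      · refine Finset.sum_congr rfl fun w _ => ?_
        rw [Finsupp.single_apply]
        rfl
      · simp
    rw [h1, ← Finset.sum_filter]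
    exact (Finset.sum_subtype _ (by simp) _)
  have hone : ∑ w : {w : W // (QuotientGroup.mk w : W ⧸ O) = 1}, z.coeff w = 0 := by
    rw [← hfib]
    have := Fintype.ofFinite (W ⧸ O)
    have h1 : ∑ q : W ⧸ O, (MonoidAlgebra.mapDomain (QuotientGroup.mk' O) z).coeff q = 0 := by
      have h2 : ∀ q : W ⧸ O, (MonoidAlgebra.mapDomain (QuotientGroup.mk' O) z).coeff q =
        ∑ w : W, if (QuotientGroup.mk w : W ⧸ O) = q then z.coeff w else 0 := by
        intro q
        rw [hfib, ← Finset.sum_filter]
        exact (Finset.sum_subtype _ (by simp) _).symm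
      rw [Finset.sum_congr rfl fun q _ => h2 q, Finset.sum_comm]
      have h3 : ∀ w : W, (∑ q : W ⧸ O, if (QuotientGroup.mk w : W ⧸ O) = q then z.coeff w else 0) =
          z.coeff w := by
        intro w
        rw [Finset.sum_ite_eq]
        simp
      rw [Finset.sum_congr rfl fun w _ => h3 w, ← aug_eq, h0]
    rw [Finset.sum_eq_single (1 : W ⧸ O)] at h1
    · exact h1
    · intro q _ hq
      rw [hfib, hsum q hq]
    · intro h
      exact absurd (Finset.mem_univ _) h
  apply MonoidAlgebra.coeff_injective
  ext q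
  rw [hfib]
  by_cases hq : q = 1
  · rw [hq, hone]
    rfl
  · rw [hsum q hq]
    rfl

theorem star_of_constrained [Fintype W] (O : Subgroup W) [O.Normal] (hO : IsPGroup 2 O)
    (hC : Subgroup.centralizer (O : Set W) ≤ O) (H : Subgroup W) : Star H := by
  intro z hz h0
  obtain ⟨N, hN⟩ := isNilpotent_of_constrained O hO hC z hz h0
  exact ⟨N, by rw [hN, zero_mul]⟩

end Cfsg.Agent.H694.EB
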