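import Cfsg.Agent.H694.EB.Nilp
import Cfsg.Agent.H694.EB.Star
import Cfsg.Agent.Tits.Core

/-!
# Class sums on the chambers of a building, modulo two

Let a finite group `K` act strongly transitively on a building whose spheres
`{y | δ x y = w}` have odd size. Modulo two the matrices `aw w` of the relations `δ x y = w`
multiply like the elements of the Weyl group.
-/

set_option autoImplicit false
set_option linter.unusedSectionVars false

namespace Cfsg.Agent.H694.EB

open Cfsg Cfsg.Agent.Tits.Core Matrix

universe u v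

variable {I : Type*} {M : CoxeterMatrix I} {W : Type*} [Group W] [Fintype W] [DecidableEq W]
variable {cs : CoxeterSystem M W} {C : Type v} [Fintype C] [DecidableEq C] (Δ : Bldg cs C)

/-- the matrix of the relation `δ x y = w`, modulo two -/
def aw (w : W) : Matrix C C (ZMod 2) := Matrix.of fun x y => if Δ.δ x y = w then 1 else 0

theorem aw_one : aw Δ (1 : W) = 1 := by
  ext x y
  rw [aw, Matrix.of_apply, Matrix.one_apply]
  simp only [Δ.eq_one]

theorem δ_comm_simple {x y : C} {i : I} : Δ.δ x y = cs.simple i ↔ Δ.δ y x = cs.simple i := by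
  rw [Δ.symm y x]
  constructor
  · intro h
    rw [← inv_inv (Δ.δ y x), h, cs.inv_simple]
  · intro h
    rw [h, cs.inv_simple]

variable (hodd : ∀ (x : C) (w : W), Odd (Nat.card {y : C // Δ.δ x y = w}))

include hodd

theorem aw_mul_simple (w : W) (i : I) : aw Δ w * aw Δ (cs.simple i) = aw Δ (w * cs.simple i) := by
  classical
  ext x z
  rw [Matrix.mul_apply]
  have h1 : ∀ y, aw Δ w x y * aw Δ (cs.simple i) y z =
      if Δ.δ x y = w ∧ Δ.δ z y = cs.simple i then 1 else 0 := by
    intro y
    simp only [aw, Matrix.of_apply, δ_comm_simple Δ (x := y) (y := z)]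
    split_ifs <;> simp_all
  rw [Finset.sum_congr rfl fun y _ => h1 y, Finset.sum_boole]
  have hT : Odd (Finset.univ.filter fun y : C => Δ.δ z y = cs.simple i).card := by
    rw [← Fintype.card_subtype, ← Nat.card_eq_fintype_card]
    exact hodd z _
  have hss : cs.simple i * cs.simple i = 1 := cs.simple_mul_simple_self i
  simp only [aw, Matrix.of_apply]
  have hv : Δ.δ x z = w * cs.simple i ↔ w = Δ.δ x z * cs.simple i := by
    constructor
    · intro h
      rw [h, mul_assoc, hss, mul_one]
    · intro h
      rw [h, mul_assoc, hss, mul_one]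
  have hne1 : cs.simple i ≠ 1 := by
    intro h
    have := cs.length_simple i
    rw [h, cs.length_one] at this
    exact absurd this (by norm_num)
  rcases cs.length_mul_simple (Δ.δ x z) i with hlen | hlen
  · -- the length goes up
    have h2 : ∀ y, Δ.δ z y = cs.simple i → Δ.δ x y = Δ.δ x z * cs.simple i :=
      fun y hy => Δ.step_lt x z y i hy (by omega)
    by_cases hw : Δ.δ x z = w * cs.simple i
    · rw [if_pos hw]
      have h3 : (Finset.univ.filter fun y : C => Δ.δ x y = w ∧ Δ.δ z y = cs.simple i) =
          Finset.univ.filter fun y : C => Δ.δ z y = cs.simple i := by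
        ext y
        simp only [Finset.mem_filter, Finset.mem_univ, true_and]
        exact ⟨fun h => h.2, fun h => ⟨by rw [h2 y h]; exact (hv.1 hw).symm, h⟩⟩
      rw [h3]
      exact (ZMod.natCast_eq_one_iff_odd).2 hT
    · rw [if_neg hw]
      have h3 : (Finset.univ.filter fun y : C => Δ.δ x y = w ∧ Δ.δ z y = cs.simple i) = ∅ := by
        ext y
        simp only [Finset.mem_filter, Finset.mem_univ, true_and, Finset.notMem_empty, iff_false]
        rintro ⟨h4, h5⟩
        exact hw (hv.2 (by rw [← h4, h2 y h5]))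
      rw [h3]
      simp
  · -- the length goes down
    obtain ⟨y₀, hy₀, hy₀'⟩ := Δ.exists_step x z i
    have h2 : ∀ y, Δ.δ z y = cs.simple i → y ≠ y₀ → Δ.δ x y = Δ.δ x z := by
      intro y hy hne
      have h3 : Δ.δ y₀ y = cs.simple i := by
        rcases Δ.step y₀ z y i hy with h4 | h4
        · exfalso
          rw [(δ_comm_simple Δ).1 hy₀, hss] at h4
          exact hne ((Δ.eq_one _ _).1 h4).symm
        · rw [h4]
          exact (δ_comm_simple Δ).1 hy₀
      rw [Δ.step_lt x y₀ y i h3 (by
        rw [hy₀', mul_assoc, hss, mul_one]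
        omega), hy₀', mul_assoc, hss, mul_one]
    by_cases hw : Δ.δ x z = w * cs.simple i
    · rw [if_pos hw]
      have h3 : (Finset.univ.filter fun y : C => Δ.δ x y = w ∧ Δ.δ z y = cs.simple i) = {y₀} := by
        ext y
        simp only [Finset.mem_filter, Finset.mem_univ, true_and, Finset.mem_singleton]
        constructor
        · rintro ⟨h4, h5⟩
          by_contra h6
          have h7 := h2 y h5 h6
          rw [h4, hv.1 hw] at h7
          apply hne1
          rw [← mul_right_inj (Δ.δ x z), mul_one]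
          exact h7
        · rintro rfl
          exact ⟨by rw [hy₀']; exact (hv.1 hw).symm, hy₀⟩
      rw [h3]
      simp
    · rw [if_neg hw]
      by_cases hw2 : w = Δ.δ x z
      · have h3 : (Finset.univ.filter fun y : C => Δ.δ x y = w ∧ Δ.δ z y = cs.simple i) =
            (Finset.univ.filter fun y : C => Δ.δ z y = cs.simple i).erase y₀ := by
          ext y
          simp only [Finset.mem_filter, Finset.mem_univ, true_and, Finset.mem_erase]
          constructor
          · rintro ⟨h4, h5⟩
            refine ⟨?_, h5⟩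
            rintro rfl
            rw [hy₀', hw2] at h4
            apply hne1
            rw [← mul_right_inj (Δ.δ x z), mul_one]
            exact h4
          · rintro ⟨h4, h5⟩
            exact ⟨by rw [h2 y h5 h4, hw2], h5⟩
        rw [h3, Finset.card_erase_of_mem (by simp [hy₀])]
        obtain ⟨m, hm⟩ := hT
        rw [hm, Nat.add_sub_cancel]
        exact (ZMod.natCast_eq_zero_iff_even).2 (even_two_mul m)
      · have h3 : (Finset.univ.filter fun y : C => Δ.δ x y = w ∧ Δ.δ z y = cs.simple i) = ∅ := by
          ext y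
          simp only [Finset.mem_filter, Finset.mem_univ, true_and, Finset.notMem_empty, iff_false]
          rintro ⟨h4, h5⟩
          by_cases h6 : y = y₀
          · rw [h6, hy₀'] at h4
            exact hw (hv.2 h4.symm)
          · exact hw2 (by rw [← h4, h2 y h5 h6])
        rw [h3]
        simp

theorem aw_mul (v w : W) : aw Δ v * aw Δ w = aw Δ (v * w) := by
  induction w using cs.simple_induction_right with
  | one => rw [aw_one, mul_one, mul_one]
  | mul_simple_right w i ih => rw [← aw_mul_simple Δ hodd, ← mul_assoc, ih, aw_mul_simple Δ hodd,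
      mul_assoc]

/-- the representation of the group algebra of the Weyl group -/
noncomputable def Phi : MonoidAlgebra (ZMod 2) W →ₐ[ZMod 2] Matrix C C (ZMod 2) :=
  MonoidAlgebra.lift (ZMod 2) (Matrix C C (ZMod 2)) W
    { toFun := aw Δ
      map_one' := aw_one Δ
      map_mul' := fun v w => (aw_mul Δ hodd v w).symm }

theorem Phi_single (w : W) : Phi Δ hodd (MonoidAlgebra.single w 1) = aw Δ w := by
  rw [Phi, MonoidAlgebra.lift_single, one_smul]
  rfl

theorem Phi_apply (z : MonoidAlgebra (ZMod 2) W) (x y : C) :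
    Phi Δ hodd z x y = z.coeff (Δ.δ x y) := by
  have h1 : Phi Δ hodd z = ∑ w, z.coeff w • aw Δ w := by
    rw [Phi, MonoidAlgebra.lift_apply, Finsupp.sum_fintype]
    · rfl
    · simp
  rw [h1, Matrix.sum_apply]
  have h2 : ∀ w, (z.coeff w • aw Δ w) x y = if Δ.δ x y = w then z.coeff w else 0 := by
    intro w
    rw [Matrix.smul_apply, aw, Matrix.of_apply, smul_eq_mul]
    split_ifs <;> simp
  rw [Finset.sum_congr rfl fun w _ => h2 w, Finset.sum_ite_eq]
  simp

theorem exists_at (x : C) (w : W) : ∃ y, Δ.δ x y = w := by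
  obtain ⟨k, hk⟩ := hodd x w
  have h1 : 0 < Nat.card {y : C // Δ.δ x y = w} := by omega
  have := (Nat.card_pos_iff.1 h1).1
  exact ⟨this.some.1, this.some.2⟩

/-- the row sums -/
theorem sum_row (z : MonoidAlgebra (ZMod 2) W) (x : C) :
    ∑ y, z.coeff (Δ.δ x y) = aug W z := by
  classical
  rw [aug_eq, ← Finset.sum_fiberwise_of_maps_to (s := Finset.univ) (t := Finset.univ)
    (g := fun y => Δ.δ x y) (fun _ _ => Finset.mem_univ _)]
  refine Finset.sum_congr rfl fun w _ => ?_
  rw [Finset.sum_congr rfl (g := fun _ => z.coeff w) (fun y hy => by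
    rw [(Finset.mem_filter.1 hy).2]), Finset.sum_const, nsmul_eq_mul]
  have h1 : Odd (Finset.univ.filter fun y : C => Δ.δ x y = w).card := by
    rw [← Fintype.card_subtype, ← Nat.card_eq_fintype_card]
    exact hodd x w
  rw [(ZMod.natCast_eq_one_iff_odd).2 h1, one_mul]

theorem Phi_injective [Nonempty C] : Function.Injective (Phi Δ hodd) := by
  intro z z' h
  apply MonoidAlgebra.coeff_injective
  ext w
  obtain ⟨y, hy⟩ := exists_at Δ hodd (Classical.arbitrary C) w
  rw [← hy, ← Phi_apply Δ hodd, ← Phi_apply Δ hodd, h]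

omit hodd

section act

variable {K : Type u} [Group K] [Fintype K] [MulAction K C]

theorem cn_smul {X : Type*} [MulAction K X] (g k : K) (x y : X) : cn g (k • x) (k • y) = cn g x y := by
  unfold cn
  refine Nat.card_congr (Equiv.subtypeEquiv (MulAut.conj k⁻¹).toEquiv fun h => ?_)
  simp only [MulEquiv.toEquiv_eq_coe, MulEquiv.coe_toEquiv, MulAut.conj_apply, inv_inv]
  have h1 : IsConj h (k⁻¹ * h * k) := isConj_iff.2 ⟨k⁻¹, by rw [inv_inv]⟩
  have h2 : (k⁻¹ * h * k) • y = x ↔ h • k • y = k • x := by
    rw [mul_smul, mul_smul, inv_smul_eq_iff]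
  rw [h2]
  exact ⟨fun h3 => ⟨h3.1.trans h1, h3.2⟩, fun h3 => ⟨h3.1.trans h1.symm, h3.2⟩⟩

/-- the number of conjugates -/
theorem sum_cn {X : Type*} [Fintype X] [MulAction K X] (g : K) (x : X) :
    ∑ y, cn g x y = (Subgroup.centralizer ({g} : Set K)).index := by
  classical
  rw [Blocks.ClassScalar.index_centralizer]
  unfold cn
  rw [← Nat.card_sigma]
  refine Nat.card_congr
    { toFun := fun p => ⟨p.2.1, p.2.2.1⟩
      invFun := fun h => ⟨h.1⁻¹ • x, h.1, h.2, smul_inv_smul _ _⟩
      left_inv := ?_
      right_inv := fun h => rfl }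
  rintro ⟨y, h, h1, h2⟩
  have h3 : h⁻¹ • x = y := by rw [← h2, inv_smul_smul]
  subst h3
  rfl

variable (hiso : ∀ (k : K) x y, Δ.δ (k • x) (k • y) = Δ.δ x y)
  (htr : ∀ x y x' y', Δ.δ x y = Δ.δ x' y' → ∃ k : K, k • x = x' ∧ k • y = y')

include hiso htr hodd

theorem exists_central [Nonempty C] (g : K) : ∃ z : MonoidAlgebra (ZMod 2) W,
    (∀ r, z * r = r * z) ∧ aug W z = ((Subgroup.centralizer ({g} : Set K)).index : ZMod 2) ∧
      Phi Δ hodd z = csum (ZMod 2) g := by
  classical
  let x₀ : C := Classical.arbitrary C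
  choose yy hyy using exists_at Δ hodd x₀
  let c : W →₀ ZMod 2 := Finsupp.equivFunOnFinite.symm fun w => (cn g x₀ (yy w) : ZMod 2)
  let z : MonoidAlgebra (ZMod 2) W := MonoidAlgebra.ofCoeff c
  have hzc : ∀ w, z.coeff w = (cn g x₀ (yy w) : ZMod 2) := fun w => rfl
  have hz : ∀ x y, z.coeff (Δ.δ x y) = (cn g x y : ZMod 2) := by
    intro x y
    obtain ⟨k, hk1, hk2⟩ := htr x y x₀ (yy (Δ.δ x y)) (hyy _).symm
    rw [hzc, ← hk2, ← hk1, cn_smul]
  have hPhi : Phi Δ hodd z = csum (ZMod 2) g := by
    ext x y
    rw [Phi_apply, hz, csum_apply]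
  refine ⟨z, ?_, ?_, hPhi⟩
  · -- central
    have h1 : ∀ (k : K) (w : W), (pm (ZMod 2) k : Matrix C C (ZMod 2)) * aw Δ w =
        aw Δ w * pm (ZMod 2) k := by
      intro k w
      ext x z
      rw [Matrix.mul_apply, Matrix.mul_apply]
      rw [Finset.sum_eq_single (k⁻¹ • x), Finset.sum_eq_single (k • z)]
      · simp only [pm, aw, Matrix.of_apply, smul_inv_smul, if_true, one_mul, mul_one]
        rw [← hiso k (k⁻¹ • x) z, smul_inv_smul]
      · intro y _ hy
        simp only [pm, Matrix.of_apply]
        rw [if_neg (fun h => hy (Eq.symm h)), mul_zero]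
      · intro h
        exact absurd (Finset.mem_univ _) h
      · intro y _ hy
        simp only [pm, Matrix.of_apply]
        rw [if_neg (fun h => hy (by rw [← h, inv_smul_smul])), zero_mul]
      · intro h
        exact absurd (Finset.mem_univ _) h
    have h2 : ∀ w : W, (csum (ZMod 2) g : Matrix C C (ZMod 2)) * aw Δ w =
        aw Δ w * csum (ZMod 2) g := by
      intro w
      unfold csum
      rw [Finset.sum_mul, Finset.mul_sum]
      refine Finset.sum_congr rfl fun k _ => ?_
      rw [smul_mul_assoc, mul_smul_comm, h1]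
    intro r
    induction r using MonoidAlgebra.induction_linear with
    | zero => rw [mul_zero, zero_mul]
    | add f g hf hg => rw [mul_add, add_mul, hf, hg]
    | single w a =>
      apply Phi_injective Δ hodd
      rw [map_mul, map_mul, hPhi]
      have h3 : MonoidAlgebra.single w a = a • MonoidAlgebra.single w (1 : ZMod 2) := by
        rw [MonoidAlgebra.smul_single, smul_eq_mul, mul_one]
      rw [h3, map_smul, Phi_single, mul_smul_comm, smul_mul_assoc, h2]
  · rw [← sum_row Δ hodd z x₀, ← sum_cn g x₀, Nat.cast_sum]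
    exact Finset.sum_congr rfl fun y _ => hz x₀ y

/-- **Nilpotency on the cosets of a parabolic subgroup.** -/
theorem nilp_of_star [Nonempty C] {X : Type*} [Fintype X] [DecidableEq X] [MulAction K X]
    (J : Set I) (π : C → X) (hπ : Function.Surjective π) (hπK : ∀ (k : K) x, π (k • x) = k • π x)
    (hπJ : ∀ x y, π x = π y ↔ Δ.δ x y ∈ WJ cs J) (hstar : Star (WJ cs J)) (g : K) :
    ∃ N : ℕ, ((Matrix.of fun x y : X => (cn g x y : ZMod 2)) -
        ((Subgroup.centralizer ({g} : Set K)).index : ZMod 2) • 1) ^ N = 0 := by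
  classical
  obtain ⟨z, hz, haug, hPhi⟩ := exists_central Δ hodd hiso htr g
  set k : ZMod 2 := ((Subgroup.centralizer ({g} : Set K)).index : ZMod 2) with hk
  let z' : MonoidAlgebra (ZMod 2) W := z - algebraMap (ZMod 2) _ k
  have hz' : ∀ r, z' * r = r * z' := by
    intro r
    rw [sub_mul, mul_sub, hz, Algebra.commutes]
  have haug' : aug W z' = 0 := by
    show aug W (z - algebraMap (ZMod 2) _ k) = 0
    rw [map_sub, haug, AlgHom.commutes]
    simp
  obtain ⟨N, hN⟩ := hstar z' hz' haug'
  refine ⟨N, ?_⟩
  rw [← csum_eq]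
  -- the inclusion
  let L : Matrix C X (ZMod 2) := Matrix.of fun x ω => if π x = ω then 1 else 0
  choose sec hsec using hπ
  let S : Matrix C X (ZMod 2) := Matrix.of fun x ω => if x = sec ω then 1 else 0
  have hx : Phi Δ hodd (xsum (WJ cs J)) * S = L := by
    ext x ω
    rw [Matrix.mul_apply, Finset.sum_eq_single (sec ω)]
    · simp only [S, L, Matrix.of_apply, if_true, mul_one]
      rw [Phi_apply]
      have h1 : ∀ v : W, (xsum (WJ cs J)).coeff v = if v ∈ WJ cs J then 1 else 0 := by
        intro v
        unfold xsum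
        rw [MonoidAlgebra.coeff_sum, Finsupp.coe_finsetSum, Finset.sum_apply,
          Finset.sum_eq_single v]
        · split_ifs
          · rw [MonoidAlgebra.coeff_single, Finsupp.single_apply, if_pos rfl]
          · rfl
        · intro w _ hw
          split_ifs
          · rw [MonoidAlgebra.coeff_single, Finsupp.single_apply, if_neg hw]
          · rfl
        · intro h
          exact absurd (Finset.mem_univ _) h
      rw [h1]
      have h2 : Δ.δ x (sec ω) ∈ WJ cs J ↔ π x = ω := by
        rw [← hπJ, hsec]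
      simp only [h2]
    · intro y _ hy
      simp only [S, Matrix.of_apply]
      rw [if_neg hy, mul_zero]
    · intro h
      exact absurd (Finset.mem_univ _) h
  have hpm : ∀ h : K, (pm (ZMod 2) h : Matrix C C (ZMod 2)) * L =
      L * (pm (ZMod 2) h : Matrix X X (ZMod 2)) := by
    intro h
    ext x ω
    rw [Matrix.mul_apply, Matrix.mul_apply]
    rw [Finset.sum_eq_single (h⁻¹ • x), Finset.sum_eq_single (π x)]
    · simp only [pm, L, Matrix.of_apply, smul_inv_smul, if_true, one_mul]
      have h2 : π (h⁻¹ • x) = ω ↔ h • ω = π x := by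
        rw [hπK, inv_smul_eq_iff, eq_comm]
      simp only [h2]
    · intro y _ hy
      simp only [L, Matrix.of_apply]
      rw [if_neg (fun h => hy (Eq.symm h)), zero_mul]
    · intro h
      exact absurd (Finset.mem_univ _) h
    · intro y _ hy
      simp only [pm, Matrix.of_apply]
      rw [if_neg (fun h => hy (by rw [← h, inv_smul_smul])), zero_mul]
    · intro h
      exact absurd (Finset.mem_univ _) h
  have hcL : (csum (ZMod 2) g : Matrix C C (ZMod 2)) * L =
      L * (csum (ZMod 2) g : Matrix X X (ZMod 2)) := by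
    unfold csum
    rw [Matrix.sum_mul, Matrix.mul_sum]
    refine Finset.sum_congr rfl fun h _ => ?_
    rw [Matrix.smul_mul, Matrix.mul_smul, hpm]
  have hz'L : Phi Δ hodd z' * L = L * (csum (ZMod 2) g - k • 1 : Matrix X X (ZMod 2)) := by
    show Phi Δ hodd (z - algebraMap (ZMod 2) _ k) * L = _
    rw [map_sub, AlgHom.commutes, hPhi, Matrix.sub_mul, Matrix.mul_sub, hcL, Matrix.mul_smul,
      Matrix.mul_one, Algebra.algebraMap_eq_smul_one, Matrix.smul_mul, Matrix.one_mul]
  have hpow : ∀ m : ℕ, Phi Δ hodd (z' ^ m) * L =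
      L * (csum (ZMod 2) g - k • 1 : Matrix X X (ZMod 2)) ^ m := by
    intro m
    induction m with
    | zero => rw [pow_zero, map_one, Matrix.one_mul, pow_zero, Matrix.mul_one]
    | succ m ih => rw [pow_succ, map_mul, Matrix.mul_assoc, hz'L, ← Matrix.mul_assoc, ih,
        Matrix.mul_assoc, ← pow_succ]
  have h0 : L * (csum (ZMod 2) g - k • 1 : Matrix X X (ZMod 2)) ^ N = 0 := by
    rw [← hpow, ← hx, ← Matrix.mul_assoc, ← map_mul, hN, map_zero, Matrix.zero_mul]
  ext ω ω'
  have h3 := congrFun (congrFun h0 (sec ω)) ω'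
  rw [Matrix.mul_apply, Finset.sum_eq_single ω] at h3
  · simpa [L, hsec] using h3
  · intro y _ hy
    simp only [L, Matrix.of_apply, hsec]
    rw [if_neg (fun h => hy (Eq.symm h)), zero_mul]
  · intro h
    exact absurd (Finset.mem_univ _) h

end act

end Cfsg.Agent.H694.EB
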