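import Cfsg.Agent.H694.BnPar
import Cfsg.Agent.H694.EB.Hecke

/-!
# Constituents of parabolic permutation characters in the principal `2`-block
-/

set_option autoImplicit false

namespace Cfsg.Agent.H694.EB

open Cfsg Cfsg.Agent.LieExceptional.BNPairCore Cfsg.Agent.Tits.Core Cfsg.Agent.Tits.Core.Bldg
  Cfsg.Agent.Tits.OfBN Cfsg.Agent.Schreier.BNSch Cfsg.Agent.Tits.OppRes Cfsg.Agent.FixBN
  Cfsg.Agent.FixBN.TwOfBN Cfsg.Agent.OddHalf.Table.AutBldg

variable {K : Type*} [Group K] [Finite K] {P : Cfsg.BNPair K}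
variable [hN : ((P.B ⊓ P.N).subgroupOf P.N).Normal]
variable {I : Type*} [Finite I] {M : CoxeterMatrix I} (e : I ≃ P.S) (cs : CoxeterSystem M (WP P))
  (hcs : ∀ i, cs.simple i = QuotientGroup.mk (⟨(e i : K), P.subset (e i).2⟩ : P.N))

include hcs

omit [Finite I] in
/-- The spheres have odd size. -/
theorem odd_sphere {p : ℕ} [Fact p.Prime] (hp : Odd p) {U : Subgroup K} (S : Split P p U)
    (x : K ⧸ P.B) (w : WP P) : Odd (Nat.card {y : K ⧸ P.B // (bldg P e cs hcs).δ x y = w}) := by
  induction x using QuotientGroup.induction_on with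
  | _ g =>
  obtain ⟨t, ht⟩ := exists_wt w
  have h1 : ∀ y : K ⧸ P.B, (bldg P e cs hcs).δ (QuotientGroup.mk g) y = w ↔
      y ∈ MulAction.orbit (OfBN.UU P U (QuotientGroup.mk g)) (QuotientGroup.mk (g * t) : K ⧸ P.B) := by
    intro y
    constructor
    · intro h
      obtain ⟨u, hu, h4⟩ := OfBN.trans S (x := (QuotientGroup.mk g : K ⧸ P.B))
        (y := QuotientGroup.mk (g * t)) (z := y) (by
          rw [dist_mk, inv_mul_cancel_left, ht, ← h]
          rfl)
      exact ⟨⟨u, hu⟩, h4⟩
    · rintro ⟨⟨u, hu⟩, rfl⟩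
      show (bldg P e cs hcs).δ (QuotientGroup.mk g) (QuotientGroup.mk (u * (g * t))) = w
      rw [bldg_δ_mk]
      have h2 := (OfBN.mem_UU S).1 hu
      have h3 : g⁻¹ * (u * (g * t)) = (g⁻¹ * u * g) * t := by group
      rw [h3, wt_mul_left P t (S.le h2), ht]
  rw [Nat.card_congr (Equiv.subtypeEquivRight h1)]
  have h3 : Nat.card (MulAction.orbit (OfBN.UU P U (QuotientGroup.mk g))
      (QuotientGroup.mk (g * t) : K ⧸ P.B)) ∣ Nat.card (OfBN.UU P U (QuotientGroup.mk g)) := by
    rw [Nat.card_congr (MulAction.orbitEquivQuotientStabilizer _ _)]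
    exact Subgroup.index_dvd_card _
  obtain ⟨n, hn⟩ := IsPGroup.iff_card.1 (OfBN.isP S (QuotientGroup.mk g))
  rw [hn] at h3
  exact (hp.pow (n := n)).of_dvd_nat h3

/-- **Constituents in the principal block.** -/
theorem principal_of_star {p : ℕ} [Fact p.Prime] (hp : Odd p) {U : Subgroup K} (S : Split P p U)
    (J : Set I) (hstar : ∀ [Fintype (WP P)], Star (WJ cs J)) {m : Ideal AlgInt}
    (hm : IsPModular 2 m) [Fintype K] (χ : IrrCharacter K)
    (hχ : ∑ h : K, (Nat.card {x : K ⧸ PJ P e J // h • x = x} : ℂ) * (χ : K → ℂ) h⁻¹ ≠ 0) :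
    χ ∈ principalBlock m K := by
  classical
  have := Fintype.ofFinite (WP P)
  have := Fintype.ofFinite (K ⧸ P.B)
  have := Fintype.ofFinite (K ⧸ PJ P e J)
  have hC : Cox cs := inferInstance
  refine mem_principalBlock (X := K ⧸ PJ P e J) hm χ hχ fun g _ => ?_
  refine nilp_of_star (bldg P e cs hcs) (odd_sphere e cs hcs hp S) (K := K) ?_ ?_ J
    (Subgroup.quotientMapOfLE (B_le_PJ e J)) ?_ ?_ ?_ hstar g
  · intro k x y
    induction x using QuotientGroup.induction_on with
    | _ a =>
    induction y using QuotientGroup.induction_on with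
    | _ b =>
    show (bldg P e cs hcs).δ (QuotientGroup.mk (k * a)) (QuotientGroup.mk (k * b)) = _
    rw [bldg_δ_mk, bldg_δ_mk]
    congr 1
    group
  · intro x y x' y' h
    induction x using QuotientGroup.induction_on with
    | _ a =>
    induction y using QuotientGroup.induction_on with
    | _ b =>
    induction x' using QuotientGroup.induction_on with
    | _ a' =>
    induction y' using QuotientGroup.induction_on with
    | _ b' =>
    rw [bldg_δ_mk, bldg_δ_mk] at h
    obtain ⟨c, hc, d, hd, h1⟩ := wt_eq_wt_iff.1 h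
    refine ⟨a' * c * a⁻¹, ?_, ?_⟩
    · show (QuotientGroup.mk (a' * c * a⁻¹ * a) : K ⧸ P.B) = QuotientGroup.mk a'
      rw [QuotientGroup.eq]
      have : (a' * c * a⁻¹ * a)⁻¹ * a' = c⁻¹ := by group
      rw [this]
      exact inv_mem hc
    · show (QuotientGroup.mk (a' * c * a⁻¹ * b) : K ⧸ P.B) = QuotientGroup.mk b'
      rw [QuotientGroup.eq]
      have : (a' * c * a⁻¹ * b)⁻¹ * b' = d := by
        have h2 : b' = a' * (c * (a⁻¹ * b) * d) := by
          rw [← h1]
          group
        rw [h2]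
        group
      rw [this]
      exact hd
  · intro x
    induction x using QuotientGroup.induction_on with
    | _ a => exact ⟨QuotientGroup.mk a, rfl⟩
  · intro k x
    induction x using QuotientGroup.induction_on with
    | _ a => rfl
  · intro x y
    induction x using QuotientGroup.induction_on with
    | _ a =>
    induction y using QuotientGroup.induction_on with
    | _ b =>
    rw [bldg_δ_mk, ← mem_PJ e cs hcs]
    exact QuotientGroup.eq

end Cfsg.Agent.H694.EB
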