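import Cfsg.Agent.H694.EB.BnStar
import Cfsg.Agent.H694.BnData
import Cfsg.Agent.H610.EB.DRed

/-!
# Sets of subgroups with odd parity invariant and constituents in the principal `2`-block
-/

set_option autoImplicit false
set_option linter.style.haveILetI false

namespace Cfsg.Agent.H694.EB

open Cfsg Cfsg.Agent.H694 Cfsg.Agent.H610.EB
open scoped ComplexConjugate
open Cfsg.Agent.Characters.Core
open Cfsg.Agent.LieExceptional.BNPairCore Cfsg.Agent.Tits.Core
  Cfsg.Agent.Tits.OfBN Cfsg.Agent.Schreier.BNSch Cfsg.Agent.FixBN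
  Cfsg.Agent.OddHalf.Table.AutBldg
open Cfsg.Agent.Omega.ML.Ex.Typ (HasSplitT HasRGDT)

universe u

/-- The constituents of the permutation character of `𝒳` lie in the principal `2`-block. -/
def InB0 {S : Type u} [Group S] [Fintype S] (𝒳 : Set (Subgroup S)) : Prop :=
  ∀ (m : Ideal AlgInt), IsPModular 2 m → ∀ φ : IrrCharacter S, mu (permS 𝒳) (φ : S → ℂ) ≠ 0 →
    φ ∈ principalBlock m S

/-- A set of subgroups, stable under all automorphisms, with an odd parity invariant and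
constituents in the principal block. -/
def BData (S : Type u) [Group S] [Finite S] : Prop :=
  ∃ 𝒳 : Set (Subgroup S), (∀ α : S ≃* S, ∀ H ∈ 𝒳, H.map α.toMonoidHom ∈ 𝒳) ∧
    Odd (Nat.card 𝒳 + Nat.card (Quotient (pairRel 𝒳 𝒳))) ∧
    ∀ [Fintype S], InB0 𝒳

/-- Two disjoint sets of subgroups permuted by the automorphisms, with odd parity invariants and
constituents in the principal block. -/
def B2Data (S : Type u) [Group S] [Finite S] : Prop :=
  ∃ 𝒳 𝒴 : Set (Subgroup S), Disjoint 𝒳 𝒴 ∧ 𝒳.Nonempty ∧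
    (∀ g : S, ∀ H ∈ 𝒳, H.map (MulAut.conj g).toMonoidHom ∈ 𝒳) ∧
    (∀ α : S ≃* S, ((∀ H ∈ 𝒳, H.map α.toMonoidHom ∈ 𝒳) ∧ (∀ H ∈ 𝒴, H.map α.toMonoidHom ∈ 𝒴)) ∨
      ((∀ H ∈ 𝒳, H.map α.toMonoidHom ∈ 𝒴) ∧ (∀ H ∈ 𝒴, H.map α.toMonoidHom ∈ 𝒳))) ∧
    Odd (Nat.card 𝒳 + Nat.card (Quotient (pairRel 𝒳 𝒳))) ∧
    Odd (Nat.card (Quotient (pairRel 𝒳 𝒳)) + Nat.card (Quotient (pairRel 𝒳 𝒴))) ∧
    ∀ [Fintype S], InB0 𝒳

/-- The permutation character of the class of a self-normalizing subgroup. -/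
theorem permS_cls {S : Type u} [Group S] {P : Subgroup S}
    (hP : Subgroup.normalizer (P : Set S) = P) (s : S) :
    permS (cls P) s = (Nat.card {x : S ⧸ P // s • x = x} : ℂ) := by
  unfold permS
  congr 1
  symm
  refine Nat.card_congr
    ((Equiv.subtypeEquiv (clsEquiv hP) (q := fun H : cls P =>
      (H : Subgroup S).map (MulAut.conj s).toMonoidHom = H) ?_).trans
      { toFun := fun H => ⟨H.1.1, H.1.2, H.2⟩
        invFun := fun H => ⟨⟨H.1, H.2.1⟩, H.2.2⟩
        left_inv := fun _ => rfl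
        right_inv := fun _ => rfl })
  intro x
  induction x using QuotientGroup.induction_on with
  | _ g =>
  show (QuotientGroup.mk (s * g) : S ⧸ P) = QuotientGroup.mk g ↔
    (P.map (MulAut.conj g).toMonoidHom).map (MulAut.conj s).toMonoidHom =
      P.map (MulAut.conj g).toMonoidHom
  rw [map_conj_conj, QuotientGroup.eq, map_conj_eq_iff hP]

/-- A constituent in terms of the sum. -/
theorem sum_ne_zero {S : Type u} [Group S] [Fintype S] {π : S → ℂ} (φ : IrrCharacter S)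
    (h : mu π (φ : S → ℂ) ≠ 0) : ∑ x : S, π x * (φ : S → ℂ) x⁻¹ ≠ 0 := by
  intro h0
  apply h
  rw [mu, classInner]
  have h1 : ∀ x : S, π x * conj ((φ : S → ℂ) x) = π x * (φ : S → ℂ) x⁻¹ := fun x => by
    rw [isCharacter_apply_inv (isIrr_isCharacter φ.2)]
  rw [Finset.sum_congr rfl fun x _ => h1 x, h0]
  simp

section

variable {K : Type u} [Group K] [Finite K] {P : Cfsg.BNPair K}
variable [hN : ((P.B ⊓ P.N).subgroupOf P.N).Normal]
variable {I : Type*} [Finite I] {M : CoxeterMatrix I} (e : I ≃ P.S) (cs : CoxeterSystem M (WP P))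
  (hcs : ∀ i, cs.simple i = QuotientGroup.mk (⟨(e i : K), P.subset (e i).2⟩ : P.N))

include hcs

theorem inB0_of_star {p : ℕ} [Fact p.Prime] (hp : Odd p) {U : Subgroup K} (S : Split P p U)
    (J : Set I) (hstar : ∀ [Fintype (WP P)], Star (WJ cs J)) [Fintype K] :
    InB0 (cls (PJ P e J)) := by
  intro m hm φ hφ
  refine principal_of_star e cs hcs hp S J hstar hm φ ?_
  have h1 := sum_ne_zero φ hφ
  simp only [permS_cls (normalizer_PJ e J)] at h1
  exact h1

end

/-- **Odd characteristic.** -/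
theorem bData_of_splitT {I : Type*} [Finite I] {M : CoxeterMatrix I} {K : Type u} [Group K]
    [Finite K] {p : ℕ} (hp : p.Prime) (hp2 : p ≠ 2) (hK : HasSplitT p M K) (J : Set I)
    (hJ : ∀ σ : I ≃ I, (∀ i j, M (σ i) (σ j) = M i j) → σ '' J = J)
    (hodd : ∀ (W : Type u) [Group W] [Finite W] (cs : CoxeterSystem M W),
      Odd ((WJ cs J).index + Nat.card (DoubleCoset.Quotient (WJ cs J : Set W) (WJ cs J : Set W))))
    (hstar : ∀ (W : Type u) [Group W] [Fintype W] (cs : CoxeterSystem M W), Star (WJ cs J)) :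
    BData K := by
  obtain ⟨P, U, e, S, hN, cs, hcs⟩ := hK
  haveI : Fact p.Prime := ⟨hp⟩
  refine ⟨cls (PJ P e J), ?_, ?_, ?_⟩
  · intro α
    obtain ⟨σ, hσ, h⟩ := exists_type_perm e cs hcs S α
    obtain ⟨g, hg⟩ := h J
    rw [hJ σ hσ] at hg
    rintro _ ⟨t, rfl⟩
    refine ⟨α t * g, ?_⟩
    rw [← map_conj_conj, ← hg, Subgroup.map_map, Subgroup.map_map]
    congr 1
    ext x
    simp
  · have h1 := index_mod e cs hcs (hp.odd_of_ne_two hp2) S J
    have h2 := hodd (WP P) cs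
    rw [card_cls (normalizer_PJ e J), card_pairRel (normalizer_PJ e J) (normalizer_PJ e J),
      card_double e cs hcs, Nat.odd_iff, Nat.add_mod, h1, ← Nat.add_mod, ← Nat.odd_iff]
    exact h2
  · intro _
    exact inB0_of_star e cs hcs (hp.odd_of_ne_two hp2) S J (fun {_} => hstar (WP P) cs)

/-- **Odd characteristic**, with two classes of parabolic subgroups. -/
theorem b2Data_of_splitT {I : Type*} [Finite I] {M : CoxeterMatrix I} {K : Type u} [Group K]
    [Finite K] {p : ℕ} (hp : p.Prime) (hp2 : p ≠ 2) (hK : HasSplitT p M K) (J L : Set I)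
    (hJL : J ≠ L)
    (hJ : ∀ σ : I ≃ I, (∀ i j, M (σ i) (σ j) = M i j) →
      (σ '' J = J ∧ σ '' L = L) ∨ (σ '' J = L ∧ σ '' L = J))
    (hodd : ∀ (W : Type u) [Group W] [Finite W] (cs : CoxeterSystem M W),
      Odd ((WJ cs J).index + Nat.card (DoubleCoset.Quotient (WJ cs J : Set W) (WJ cs J : Set W))))
    (hodd' : ∀ (W : Type u) [Group W] [Finite W] (cs : CoxeterSystem M W),
      Odd (Nat.card (DoubleCoset.Quotient (WJ cs J : Set W) (WJ cs J : Set W)) +
        Nat.card (DoubleCoset.Quotient (WJ cs J : Set W) (WJ cs L : Set W))))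
    (hstar : ∀ (W : Type u) [Group W] [Fintype W] (cs : CoxeterSystem M W), Star (WJ cs J)) :
    B2Data K := by
  obtain ⟨P, U, e, S, hN, cs, hcs⟩ := hK
  haveI : Fact p.Prime := ⟨hp⟩
  have hmap : ∀ (α : K ≃* K) (A B : Subgroup K),
      (∃ g : K, A.map α.toMonoidHom = B.map (MulAut.conj g).toMonoidHom) →
      ∀ H ∈ cls A, H.map α.toMonoidHom ∈ cls B := by
    rintro α A B ⟨g, hg⟩ _ ⟨t, rfl⟩
    refine ⟨α t * g, ?_⟩
    rw [← map_conj_conj, ← hg, Subgroup.map_map, Subgroup.map_map]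
    congr 1
    ext x
    simp
  refine ⟨cls (PJ P e J), cls (PJ P e L), ?_, ⟨_, 1, rfl⟩, fun g H hH => conj_mem_cls hH g,
    ?_, ?_, ?_, ?_⟩
  · rw [Set.disjoint_left]
    rintro H ⟨g, rfl⟩ ⟨t, ht⟩
    have h1 : (PJ P e J).map (MulAut.conj (t⁻¹ * g)).toMonoidHom = PJ P e L := by
      rw [← map_conj_conj, ← ht, map_conj_conj, inv_mul_cancel, map_conj_one]
    have h2 := Cfsg.Agent.S0313.result P (PJ_sub e J) (PJ_sub e L) _ h1
    have h3 := Cfsg.Agent.S0314.result P (PJ_sub e J) (PJ_sub e L) h2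
    have hinj : Function.Injective (fun i => (e i : K)) := fun i j h =>
      e.injective (Subtype.ext h)
    exact hJL (hinj.image_injective h3)
  · intro α
    obtain ⟨σ, hσ, h⟩ := exists_type_perm e cs hcs S α
    obtain ⟨g, hg⟩ := h J
    obtain ⟨t, ht⟩ := h L
    rcases hJ σ hσ with ⟨h1, h2⟩ | ⟨h1, h2⟩
    · rw [h1] at hg
      rw [h2] at ht
      exact Or.inl ⟨hmap α _ _ ⟨g, hg⟩, hmap α _ _ ⟨t, ht⟩⟩
    · rw [h1] at hg
      rw [h2] at ht
      exact Or.inr ⟨hmap α _ _ ⟨g, hg⟩, hmap α _ _ ⟨t, ht⟩⟩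
  · rw [card_cls (normalizer_PJ e J), card_pairRel (normalizer_PJ e J) (normalizer_PJ e J),
      card_double e cs hcs]
    have h1 := index_mod e cs hcs (hp.odd_of_ne_two hp2) S J
    have h2 := hodd (WP P) cs
    rw [Nat.odd_iff, Nat.add_mod, h1, ← Nat.add_mod, ← Nat.odd_iff]
    exact h2
  · rw [card_pairRel (normalizer_PJ e J) (normalizer_PJ e J),
      card_pairRel (normalizer_PJ e J) (normalizer_PJ e L), card_double e cs hcs,
      card_double e cs hcs]
    exact hodd' (WP P) cs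
  · intro _
    exact inB0_of_star e cs hcs (hp.odd_of_ne_two hp2) S J (fun {_} => hstar (WP P) cs)

end Cfsg.Agent.H694.EB
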