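import Cfsg.Agent.H694.EB.TwoRows
import Cfsg.Agent.H694.EB.BTypes
import Cfsg.Agent.H694.EB.Wrap
import Cfsg.Agent.H694.Table
import Cfsg.Agent.H24.EB.TypeA
import Cfsg.Agent.H274.EB.U1
import Cfsg.Agent.KFacts.RgdLieCharP

/-!
# The groups of Lie type of rank at most two

* `LowOdd p S`: the rows of odd characteristic `p` not treated by `lie_odd`: `PSL₂`, `PSL₃`, `PSU₃`, `G₂`, `³D₄`, `²G₂`;
* `LowTwo S`: the rows of characteristic two not treated by `lie_two`: `PSL₂`, `PSL₃`, `PSp₄`, `PSU₃`, `PSU₄`, `PSU₅`,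
  `G₂`, `³D₄`, `²B₂`, `²F₄`;
* `lie_odd`: `EvenJ S ∨ LowOdd p S` for all the groups of Lie type in odd characteristic.
-/

set_option autoImplicit false

namespace Cfsg.Agent.H694.EB

open Cfsg Cfsg.Agent.H694 Cfsg.Agent.H684.EB Cfsg.Agent.Nodes Cfsg.Agent.Omega.ML.Ex.Typ

universe u v

/-- The rows of rank at most two in odd characteristic, except the type `B₂`. -/
inductive LowOdd (p : ℕ) (S : Type u) [Group S] : Prop
  | psl (F : Type) (iF : Field F) (iT : Fintype F) (iC : CharP F p) (n : ℕ) (hn : n = 2 ∨ n = 3)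
      (h4 : n = 2 → 4 ≤ Fintype.card F) (e : S ≃* Matrix.ProjectiveSpecialLinearGroup (Fin n) F)
  | psu3 (F : Type) (iF : Field F) (iT : Fintype F) (iC : CharP F p) (q : ℕ)
      (hF : Fintype.card F = q ^ 2) (e : S ≃* PSU 3 F q)
  | g2 (F : Type) (iF : Field F) (iT : Fintype F) (iC : CharP F p) (h3 : 3 ≤ Fintype.card F)
      (e : S ≃* Lie.chevG2.group F)
  | d4 (F : Type) (iF : Field F) (iT : Fintype F) (iC : CharP F p) (q : ℕ) (hq : IsPrimePow q)
      (hF : Fintype.card F = q ^ 3) (e : S ≃* Lie.twistedD4 F q)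
  | ree (h3 : p = 3) (h : Lie.IsoRee S)

/-- The rows of rank at most two in characteristic two. -/
inductive LowTwo (S : Type u) [Group S] : Prop
  | psl (F : Type) (iF : Field F) (iT : Fintype F) (iC : CharP F 2) (n : ℕ) (hn : n = 2 ∨ n = 3)
      (h4 : n = 2 → 4 ≤ Fintype.card F) (e : S ≃* Matrix.ProjectiveSpecialLinearGroup (Fin n) F)
  | psp4 (F : Type) (iF : Field F) (iT : Fintype F) (iC : CharP F 2) (h3 : 3 ≤ Fintype.card F)
      (e : S ≃* PSp 2 F)
  | psu (F : Type) (iF : Field F) (iT : Fintype F) (iC : CharP F 2) (n q : ℕ)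
      (hF : Fintype.card F = q ^ 2) (hn : n = 3 ∨ n = 4 ∨ n = 5) (h32 : ¬ (n = 3 ∧ q = 2))
      (e : S ≃* PSU n F q)
  | g2 (F : Type) (iF : Field F) (iT : Fintype F) (iC : CharP F 2) (h3 : 3 ≤ Fintype.card F)
      (e : S ≃* Lie.chevG2.group F)
  | d4 (F : Type) (iF : Field F) (iT : Fintype F) (iC : CharP F 2) (q : ℕ) (hq : IsPrimePow q)
      (hF : Fintype.card F = q ^ 3) (e : S ≃* Lie.twistedD4 F q)
  | sz (h : Lie.IsoSuzuki S)
  | f4 (h : Lie.Iso2F4 S)

section transport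

open scoped ComplexConjugate
open Cfsg.Agent.H610.EB Cfsg.Agent.Characters.Core

/-- Transport of `BData`, between universes. -/
theorem bData_of_equiv {S : Type u} {T : Type v} [Group S] [Group T] [Finite S] [Finite T] (e : S ≃* T)
    (h : BData S) : BData T := by
  classical
  obtain ⟨𝒳, hα, hp, hin⟩ := h
  let f : Subgroup S ≃ Subgroup T :=
    { toFun := fun H => H.map e.toMonoidHom
      invFun := fun H => H.map e.symm.toMonoidHom
      left_inv := map_map_symm e
      right_inv := map_symm_map e }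
  have hconj : ∀ (s : S) (H : Subgroup S),
      (H.map (MulAut.conj s).toMonoidHom).map e.toMonoidHom =
        (H.map e.toMonoidHom).map (MulAut.conj (e s)).toMonoidHom := by
    intro s H
    rw [Subgroup.map_map, Subgroup.map_map]
    congr 1
    ext x
    simp
  let F : 𝒳 ≃ {H : Subgroup T // H.map e.symm.toMonoidHom ∈ 𝒳} :=
    Equiv.subtypeEquiv f fun H => by
      show H ∈ 𝒳 ↔ (H.map e.toMonoidHom).map e.symm.toMonoidHom ∈ 𝒳
      rw [map_map_symm]
  refine ⟨{H : Subgroup T | H.map e.symm.toMonoidHom ∈ 𝒳}, ?_, ?_, ?_⟩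
  · intro α H hH
    have h1 := hα ((e.trans α).trans e.symm) _ hH
    have h2 : (H.map e.symm.toMonoidHom).map ((e.trans α).trans e.symm).toMonoidHom =
        (H.map α.toMonoidHom).map e.symm.toMonoidHom := by
      rw [Subgroup.map_map, Subgroup.map_map]
      congr 1
      ext x
      simp
    rw [h2] at h1
    exact h1
  · have e1 : Nat.card 𝒳 = Nat.card {H : Subgroup T | H.map e.symm.toMonoidHom ∈ 𝒳} :=
      Nat.card_congr F
    have e2 : Nat.card (Quotient (pairRel 𝒳 𝒳)) =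
        Nat.card (Quotient (pairRel {H : Subgroup T | H.map e.symm.toMonoidHom ∈ 𝒳}
          {H : Subgroup T | H.map e.symm.toMonoidHom ∈ 𝒳})) := by
      refine Nat.card_congr (Quotient.congr (Equiv.prodCongr F F) fun x y => ?_)
      constructor
      · rintro ⟨g, h1, h2⟩
        refine ⟨e g, ?_, ?_⟩
        · show ((x.1 : Subgroup S).map e.toMonoidHom).map (MulAut.conj (e g)).toMonoidHom =
            (y.1 : Subgroup S).map e.toMonoidHom
          rw [← hconj, h1]
        · show ((x.2 : Subgroup S).map e.toMonoidHom).map (MulAut.conj (e g)).toMonoidHom =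
            (y.2 : Subgroup S).map e.toMonoidHom
          rw [← hconj, h2]
      · rintro ⟨g, h1, h2⟩
        obtain ⟨g, rfl⟩ := e.surjective g
        refine ⟨g, ?_, ?_⟩
        · apply f.injective
          have h3 : ((x.1 : Subgroup S).map e.toMonoidHom).map (MulAut.conj (e g)).toMonoidHom =
            (y.1 : Subgroup S).map e.toMonoidHom := h1
          rw [← hconj] at h3
          exact h3
        · apply f.injective
          have h3 : ((x.2 : Subgroup S).map e.toMonoidHom).map (MulAut.conj (e g)).toMonoidHom =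
            (y.2 : Subgroup S).map e.toMonoidHom := h2
          rw [← hconj] at h3
          exact h3
    rw [← e1, ← e2]
    exact hp
  · intro iT m hm φ hφ
    have : Fintype S := Fintype.ofFinite S
    have hirr : IsIrrCharacter S (fun s => (φ : T → ℂ) (e s)) :=
      isIrr_comp e.toMonoidHom e.surjective φ.2
    have h1 := hin m hm ⟨fun s => (φ : T → ℂ) (e s), hirr⟩ ?_
    · exact (H611.EB.mem_comp_equiv e φ.2 hirr).1 h1
    · intro h2
      apply hφ
      rw [← h2, mu, mu]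
      congr 2
      have h3 := Cfsg.Agent.H610.EB.classInner_equiv e.toEquiv
        (permS {H : Subgroup T | H.map e.symm.toMonoidHom ∈ 𝒳}) (φ : T → ℂ)
      rw [← h3]
      congr 1
      funext s
      show permS {H : Subgroup T | H.map e.symm.toMonoidHom ∈ 𝒳} (e s) = permS 𝒳 s
      unfold permS
      congr 1
      symm
      refine Nat.card_congr (Equiv.subtypeEquiv f fun H => ?_)
      show (H ∈ 𝒳 ∧ H.map (MulAut.conj s).toMonoidHom = H) ↔
        ((H.map e.toMonoidHom).map e.symm.toMonoidHom ∈ 𝒳 ∧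
          (H.map e.toMonoidHom).map (MulAut.conj (e s)).toMonoidHom = H.map e.toMonoidHom)
      rw [map_map_symm, ← hconj]
      constructor
      · rintro ⟨h4, h5⟩
        exact ⟨h4, by rw [h5]⟩
      · rintro ⟨h4, h5⟩
        exact ⟨h4, f.injective h5⟩

end transport

variable {S : Type u} [Group S] [Finite S] [IsSimpleGroup S] {p : ℕ}

omit [Finite S] in
theorem isSimple_congr {T : Type u} [Group T] (e : S ≃* T) : IsSimpleGroup T :=
  e.symm.isSimpleGroup

theorem evenJ_typeB (hp : p.Prime) (hp2 : p ≠ 2) {m : ℕ} (hm : 2 ≤ m)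
    (h : HasRGDT p (CoxeterMatrix.B m) S) : EvenJ S := by
  rcases Nat.lt_or_ge m 3 with h3 | h3
  · have : m = 2 := by omega
    subst this
    refine evenJ_of_b2Data' fun T _ _ ⟨e⟩ => ?_
    have : IsSimpleGroup T := isSimple_congr e
    exact b2Data_B2 hp hp2 ((h.of_equiv e).hasSplitT hp (by norm_num))
  · exact evenJ_of_bData (bData_B h3 hp hp2 (h.hasSplitT hp (by omega)))

/-- **Odd characteristic.** -/
theorem lie_odd (hp : p.Prime) (hp2 : p ≠ 2) (h : IsLieTypeChar p S) : EvenJ S ∨ LowOdd p S := by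
  have hfp : Fact p.Prime := ⟨hp⟩
  rcases h with h | h | h | h | h | h | h | h | h | h | h
  · obtain ⟨F, _, _, _, n, hn, h4, ⟨e⟩⟩ := h
    rcases Nat.lt_or_ge n 4 with h5 | h5
    · exact Or.inr (.psl F _ _ ‹_› n (by omega) h4 e)
    · obtain ⟨n, rfl⟩ : ∃ k, n = k + 1 := ⟨n - 1, by omega⟩
      exact Or.inl (evenJ_of_bData (bData_of_equiv e.symm
        (H24.EB.bData_A (n := n) (by omega) (F := F) hp2)))
  · obtain ⟨F, _, _, _, m, hm, -, ⟨e⟩⟩ := h
    exact Or.inl (evenJ_typeB hp hp2 hm ((typ_PSp (F := F) (p := p) (by omega)).of_equiv e.symm))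
  · obtain ⟨F, _, _, _, n, q, hF, hn, -, ⟨e⟩⟩ := h
    rcases Nat.lt_or_ge n 4 with h5 | h5
    · interval_cases n
      exact Or.inr (.psu3 F _ _ ‹_› q hF e)
    · obtain ⟨m, hm, h6⟩ := typ_PSU (F := F) (p := p) hF hn
      exact Or.inl (evenJ_typeB hp hp2 (by omega) (h6.of_equiv e.symm))
  · obtain ⟨F, _, _, _, m, hm, hodd, ⟨e⟩⟩ := h
    have h2 : (2 : F) ≠ 0 := two_ne_zero_of_oddCard hodd
    exact Or.inl (evenJ_typeB hp hp2 (by omega)
      ((H580.LieFam.typ_PO_odd (p := p) h2 (by omega)).of_equiv e.symm))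
  · obtain ⟨F, _, _, _, m, hm, ⟨e⟩⟩ := h
    obtain ⟨n, rfl⟩ := Nat.exists_eq_add_of_le (show 3 ≤ m by omega)
    have h1 : HasRGDT p (Nodes.TypeD.M (n + 1)) S := by
      rw [add_comm 3 n] at e
      exact (typ_PO_plus (F := F) n).of_equiv e.symm
    rcases Nat.lt_or_ge n 2 with h5 | h5
    · have : n = 1 := by omega
      subst this
      exact Or.inl (evenJ_of_bData (bData_D4 hp hp2 (h1.hasSplitT hp (by norm_num))))
    · exact Or.inl (evenJ_of_bData (bData_D (n := n + 1) (by omega) hp hp2 (h1.hasSplitT hp (by omega))))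
  · obtain ⟨F, _, _, _, m, a, b, hm, hab, ⟨e⟩⟩ := h
    exact Or.inl (evenJ_typeB hp hp2 (by omega)
      ((typ_PO_minus (F := F) (p := p) hab (by omega)).of_equiv e.symm))
  · obtain ⟨F, _, _, _, ⟨h3, ⟨e⟩⟩ | ⟨⟨e⟩⟩ | ⟨⟨e⟩⟩ | ⟨⟨e⟩⟩ | ⟨⟨e⟩⟩⟩ := h
    · exact Or.inr (.g2 F _ _ ‹_› h3 e)
    · exact Or.inl (evenJ_of_bData (bData_F4 hp hp2 (((typ_group (by
        simp [Cfsg.Agent.Nodes.RGDChev.IsType, Cfsg.Agent.Nodes.RGDChev.typeList]) F p :
          HasRGDT p CoxeterMatrix.F₄ ↥(Lie.chevF4.group F)).of_equiv e.symm).hasSplitT hp (by norm_num))))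
    · exact Or.inl (evenJ_of_bData (bData_E6 hp hp2 (((typ_group (by
        simp [Cfsg.Agent.Nodes.RGDChev.IsType, Cfsg.Agent.Nodes.RGDChev.typeList]) F p :
          HasRGDT p CoxeterMatrix.E₆ ↥(Lie.chevE6.group F)).of_equiv e.symm).hasSplitT hp (by norm_num))))
    · exact Or.inl (evenJ_of_bData (bData_E7 hp hp2 (((typ_group (by
        simp [Cfsg.Agent.Nodes.RGDChev.IsType, Cfsg.Agent.Nodes.RGDChev.typeList]) F p :
          HasRGDT p CoxeterMatrix.E₇ ↥(Lie.chevE7.group F)).of_equiv e.symm).hasSplitT hp (by norm_num))))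
    · exact Or.inl (evenJ_of_bData (bData_E8 hp hp2 (((typ_group (by
        simp [Cfsg.Agent.Nodes.RGDChev.IsType, Cfsg.Agent.Nodes.RGDChev.typeList]) F p :
          HasRGDT p CoxeterMatrix.E₈ ↥(Lie.chevE8.group F)).of_equiv e.symm).hasSplitT hp (by norm_num))))
  · obtain ⟨K, _, _, _, q, hq, ⟨hK, ⟨e⟩⟩ | ⟨hK, ⟨e⟩⟩⟩ := h
    · exact Or.inl (evenJ_of_bData (bData_F4 hp hp2
        (((typ_twE6 hq hK p).of_equiv e.symm).hasSplitT hp (by norm_num))))
    · exact Or.inr (.d4 K _ _ ‹_› q hq hK e)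
  · exact absurd h.1 hp2
  · exact absurd h.1 hp2
  · exact Or.inr (.ree h.1 h.2)

end Cfsg.Agent.H694.EB
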