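import Cfsg.Agent.H694.EB.Star
import Cfsg.Agent.H694.ListCount

/-!
# The nilpotency condition by intersection numbers, for a list of encoded roots

The stabilizer of a dominant root `α₀` in a simply laced Coxeter group; the double cosets are
separated by the inner product with `α₀`.
-/

set_option autoImplicit false
set_option linter.unusedSectionVars false

namespace Cfsg.Agent.H694.EB

open Cfsg.Agent.ChevalleyStructure.CoxeterGeom Cfsg.Agent.Tits.Core Cfsg.Agent.Tits.OppRes
open Cfsg.Agent.H694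

section form

variable {B : Type*} [Fintype B] [DecidableEq B] {A : B → B → ℤ}

/-- the bilinear form -/
def bf (A : B → B → ℤ) (x y : B → ℤ) : ℤ := ∑ i, x i * pairing A i y

theorem bf_eq (x y : B → ℤ) : bf A x y = ∑ i, ∑ j, x i * A i j * y j := by
  unfold bf pairing
  refine Finset.sum_congr rfl fun i _ => ?_
  rw [Finset.mul_sum]
  refine Finset.sum_congr rfl fun j _ => ?_
  ring

theorem bf_comm (hA : ∀ i j, A i j = A j i) (x y : B → ℤ) : bf A x y = bf A y x := by
  rw [bf_eq, bf_eq, Finset.sum_comm]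
  refine Finset.sum_congr rfl fun i _ => Finset.sum_congr rfl fun j _ => ?_
  rw [hA i j]
  ring

theorem bf_sub_left (x x' y : B → ℤ) : bf A (x - x') y = bf A x y - bf A x' y := by
  simp only [bf, Pi.sub_apply, sub_mul, Finset.sum_sub_distrib]

theorem bf_single_left (k : B) (a : ℤ) (y : B → ℤ) :
    bf A (Pi.single k a) y = a * pairing A k y := by
  unfold bf
  rw [Finset.sum_eq_single k]
  · rw [Pi.single_eq_same]
  · intro b _ hb
    rw [Pi.single_eq_of_ne hb, zero_mul]
  · intro h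
    exact absurd (Finset.mem_univ _) h

theorem bf_single_right (hA : ∀ i j, A i j = A j i) (k : B) (a : ℤ) (x : B → ℤ) :
    bf A x (Pi.single k a) = a * pairing A k x := by
  rw [bf_comm hA, bf_single_left]

theorem bf_refl (hA : ∀ i j, A i j = A j i) (hA2 : ∀ i, A i i = 2) (k : B) (x y : B → ℤ) :
    bf A (refl A k x) (refl A k y) = bf A x y := by
  rw [refl_apply, refl_apply, bf_sub_left, bf_single_left, bf_comm hA x, bf_sub_left,
    bf_single_left, bf_comm hA y x]
  have h1 : pairing A k (y - Pi.single k (pairing A k y)) = - pairing A k y := by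
    have h2 : y - Pi.single k (pairing A k y) = y + Pi.single k (-pairing A k y) := by
      rw [Pi.single_neg, sub_eq_add_neg]
    rw [h2, pairing_add, pairing_single, hA2]
    ring
  rw [h1]
  ring

end form

section list

variable {l : ℕ} {M : CoxeterMatrix (Fin l)} {A : Fin l → Fin l → ℤ} (h : IsCartan M A)
  {W : Type*} [Group W] (cs : CoxeterSystem M W)

theorem bf_rep (hA : ∀ i j, A i j = A j i) (w : W) (x y : Fin l → ℤ) :
    bf A (rep cs h w x) (rep cs h w y) = bf A x y := by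
  induction w using cs.simple_induction generalizing x y with
  | simple i => rw [rep_simple, bf_refl hA h.diag]
  | one => rw [map_one]; rfl
  | mul u v hu hv => rw [rep_mul_apply, rep_mul_apply, hu, hv]

end list

section xs

variable {W : Type*} [Group W] [Fintype W] (H : Subgroup W)

theorem coeff_xsum_mul (z : MonoidAlgebra (ZMod 2) W) (w : W) [DecidablePred (· ∈ H)] :
    (xsum H * z).coeff w = ∑ u : W, if u ∈ H then z.coeff (u⁻¹ * w) else 0 := by
  classical
  unfold xsum
  rw [Finset.sum_mul, MonoidAlgebra.coeff_sum, Finsupp.coe_finsetSum, Finset.sum_apply]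
  refine Finset.sum_congr rfl fun u _ => ?_
  by_cases hu : u ∈ H
  · rw [if_pos hu, if_pos hu, MonoidAlgebra.coeff_single_mul_apply, one_mul]
  · rw [if_neg hu, if_neg hu, zero_mul]
    rfl

theorem coeff_xsum (w : W) [Decidable (w ∈ H)] : (xsum H).coeff w = if w ∈ H then 1 else 0 := by
  classical
  have h1 := coeff_xsum_mul H 1 w
  rw [mul_one] at h1
  rw [h1, Finset.sum_eq_single w]
  · rw [inv_mul_cancel, MonoidAlgebra.one_def, MonoidAlgebra.coeff_single, Finsupp.single_apply,
      if_pos rfl]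
    congr
  · intro u _ hu
    by_cases hu' : u ∈ H
    · rw [if_pos hu', MonoidAlgebra.one_def, MonoidAlgebra.coeff_single, Finsupp.single_apply,
        if_neg (fun h => hu (inv_mul_eq_one.1 (Eq.symm h)))]
    · rw [if_neg hu']
  · intro h
    exact absurd (Finset.mem_univ _) h

theorem single_mul_xsum {u : W} (hu : u ∈ H) : MonoidAlgebra.single u 1 * xsum H = xsum H := by
  classical
  apply MonoidAlgebra.coeff_injective
  ext w
  rw [MonoidAlgebra.coeff_single_mul_apply, one_mul, coeff_xsum, coeff_xsum]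
  simp only [H.mul_mem_cancel_left (inv_mem hu)]

theorem xsum_mul_single {u : W} (hu : u ∈ H) : xsum H * MonoidAlgebra.single u 1 = xsum H := by
  classical
  apply MonoidAlgebra.coeff_injective
  ext w
  rw [MonoidAlgebra.coeff_mul_single_apply, mul_one, coeff_xsum, coeff_xsum]
  simp only [H.mul_mem_cancel_right (inv_mem hu)]

end xs

section main

variable {l : ℕ} {M : CoxeterMatrix (Fin l)} {A : Fin l → Fin l → ℤ} (h : IsCartan M A)
  {W : Type*} [Group W] (cs : CoxeterSystem M W) (n₀ : ℕ) (α₀ : Fin l → ℤ)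

/-- the inner product with the base root -/
def tt (w : W) : ℤ := fn (fun i : Fin l => dc n₀ i) (rep cs h w α₀)

/-- the value of a code on a root -/
def vl (x : Fin l → ℤ) (n : ℕ) : ℤ := ∑ j : Fin l, x j * dc n j

theorem vl_eq (x : Fin l → ℤ) (n : ℕ) : vl x n = fn (fun i : Fin l => dc n i) x := rfl

variable (hA : ∀ i j, A i j = A j i) (hα : ∀ j, pairing A j α₀ = dc n₀ j)

include hA hα in
theorem tt_eq_bf (w : W) : tt h cs n₀ α₀ w = bf A α₀ (rep cs h w α₀) := by
  rw [bf_comm hA]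
  unfold tt fn bf
  refine Finset.sum_congr rfl fun j _ => ?_
  rw [hα]

include hA hα in
theorem tt_inv (w : W) : tt h cs n₀ α₀ w⁻¹ = tt h cs n₀ α₀ w := by
  rw [tt_eq_bf h cs n₀ α₀ hA hα, tt_eq_bf h cs n₀ α₀ hA hα,
    ← bf_rep h cs hA w α₀ (rep cs h w⁻¹ α₀), ← rep_mul_apply, mul_inv_cancel, map_one,
    bf_comm hA]
  rfl

include hA hα in
/-- the functional of a root -/
theorem mv_apply (w : W) (j : Fin l) :
    mv cs h w (fun i : Fin l => dc n₀ i) j = pairing A j (rep cs h w⁻¹ α₀) := by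
  have h1 : pairing A j (rep cs h w⁻¹ α₀) = bf A (Pi.single j 1) (rep cs h w⁻¹ α₀) := by
    rw [bf_single_left, one_mul]
  rw [h1, ← bf_rep h cs hA w (Pi.single j 1), ← rep_mul_apply, mul_inv_cancel, map_one]
  show fn _ _ = _
  unfold fn bf
  refine Finset.sum_congr rfl fun j _ => ?_
  show _ = _ * pairing A j α₀
  rw [hα]

theorem tt_eq_mv (w : W) : tt h cs n₀ α₀ w = fn (mv cs h w (fun i : Fin l => dc n₀ i)) α₀ := by
  rw [fn_mv]
  rfl

variable [Fintype W] (hdom : ∀ i : Fin l, 0 ≤ dc n₀ i)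

include hdom in
theorem tt_mul_left {u : W} (hu : u ∈ WJ cs {i : Fin l | dc n₀ i = 0}) (w : W) :
    tt h cs n₀ α₀ (u * w) = tt h cs n₀ α₀ w := by
  rw [tt_eq_mv, tt_eq_mv, mv_mul, (mem_WJ_iff cs h (c := fun i : Fin l => dc n₀ i) hdom).1 hu]

include hdom hA hα in
theorem tt_mul_right {u : W} (hu : u ∈ WJ cs {i : Fin l | dc n₀ i = 0}) (w : W) :
    tt h cs n₀ α₀ (w * u) = tt h cs n₀ α₀ w := by
  rw [← tt_inv h cs n₀ α₀ hA hα (w * u), mul_inv_rev,
    tt_mul_left h cs n₀ α₀ hdom (inv_mem hu), tt_inv h cs n₀ α₀ hA hα]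

/-- one step of the recursion -/
def step (P : Fin 5 → Fin 5 → Fin 5 → ZMod 2) (F G : Fin 5 → ZMod 2) : Fin 5 → ZMod 2 :=
  fun i => ∑ a, ∑ b, P i a b * G a * F b

include hA hα hdom in
theorem star_core (L : List ℕ)
    (horb : ∀ x : Fin l → ℤ, (∃ w : W, mv cs h w (fun i => dc n₀ i) = x) ↔
      ∃ n ∈ L, (fun i : Fin l => dc n i) = x)
    (hinj : ∀ n ∈ L, ∀ m ∈ L, (∀ i : Fin l, dc n i = dc m i) → n = m) (hnd : L.Nodup)
    (hcard : Nat.card (DoubleCoset.Quotient (WJ cs {i : Fin l | dc n₀ i = 0} : Set W)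
        (WJ cs {i : Fin l | dc n₀ i = 0} : Set W)) = 5)
    (x : Fin 5 → Fin l → ℤ) (nk : Fin 5 → ℕ) (hnk : ∀ i, nk i ∈ L)
    (hx : ∀ i j, pairing A j (x i) = dc (nk i) j) (V : Fin 5 → ℤ) (hV : Function.Injective V)
    (hval : ∀ i, vl α₀ (nk i) = V i)
    (hAinj : ∀ y : Fin l → ℤ, (∀ j, pairing A j y = 0) → y = 0)
    (P : Fin 5 → Fin 5 → Fin 5 → ZMod 2)
    (hP : ∀ i a b, ((L.countP fun n => vl α₀ n = V a ∧ vl (x i) n = V b : ℕ) : ZMod 2) = P i a b)
    (S : Fin 5 → ZMod 2) (hS : ∀ a, ((L.countP fun n => vl α₀ n = V a : ℕ) : ZMod 2) = S a)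
    (hnil : ∀ F : Fin 5 → ZMod 2, ∑ a, S a * F a = 0 → step P F (step P F F) = 0) :
    Star (WJ cs {i : Fin l | dc n₀ i = 0}) := by
  classical
  set H := WJ cs {i : Fin l | dc n₀ i = 0} with hH
  let t := tt h cs n₀ α₀
  let c₀ : Fin l → ℤ := fun i => dc n₀ i
  have tl : ∀ {u : W}, u ∈ H → ∀ w, t (u * w) = t w :=
    fun hu w => tt_mul_left h cs n₀ α₀ hdom hu w
  have tr : ∀ {u : W}, u ∈ H → ∀ w, t (w * u) = t w :=
    fun hu w => tt_mul_right h cs n₀ α₀ hA hα hdom hu w
  -- representatives for the list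
  have hex : ∀ n ∈ L, ∃ w : W, mv cs h w c₀ = fun i : Fin l => dc n i :=
    fun n hn => (horb _).2 ⟨n, hn, rfl⟩
  let v : ℕ → W := fun n => if hn : n ∈ L then (hex n hn).choose else 1
  have hv : ∀ n ∈ L, mv cs h (v n) c₀ = fun i : Fin l => dc n i := by
    intro n hn
    show mv cs h (if hn : n ∈ L then (hex n hn).choose else 1) c₀ = _
    rw [dif_pos hn]
    exact (hex n hn).choose_spec
  have htv : ∀ n ∈ L, t (v n) = vl α₀ n := by
    intro n hn
    show tt h cs n₀ α₀ (v n) = _
    rw [tt_eq_mv]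
    show fn (mv cs h (v n) c₀) α₀ = _
    rw [hv n hn]
    rfl
  -- the five representatives
  let w : Fin 5 → W := fun i => v (nk i)
  have hw : ∀ i, t (w i) = V i := fun i => (htv _ (hnk i)).trans (hval i)
  have hwx : ∀ i, rep cs h (w i)⁻¹ α₀ = x i := by
    intro i
    have h1 : rep cs h (w i)⁻¹ α₀ - x i = 0 := by
      apply hAinj
      intro j
      have h2 := mv_apply h cs n₀ α₀ hA hα (w i) j
      have h3 : mv cs h (w i) c₀ j = dc (nk i) j := congrFun (hv _ (hnk i)) j
      have h4 : pairing A j (rep cs h (w i)⁻¹ α₀) = pairing A j (x i) := by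
        rw [hx, ← h3]
        exact h2.symm
      have h5 : rep cs h (w i)⁻¹ α₀ - x i = rep cs h (w i)⁻¹ α₀ + (-1 : ℤ) • x i := by
        rw [neg_one_smul, sub_eq_add_neg]
      rw [h5, pairing_add, pairing_smul, h4]
      ring
    exact sub_eq_zero.1 h1
  -- the double cosets
  let q : W → DoubleCoset.Quotient (H : Set W) (H : Set W) := Quotient.mk _
  have hqt : ∀ a b : W, q a = q b → t a = t b := by
    intro a b hab
    obtain ⟨u, hu, u', hu', rfl⟩ := DoubleCoset.rel_iff.1 (Quotient.exact hab)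
    rw [tr hu', tl hu]
  have hqinj : Function.Injective fun i => q (w i) := by
    intro i j hij
    exact hV (by rw [← hw, ← hw]; exact hqt _ _ hij)
  have hfinq : Finite (DoubleCoset.Quotient (H : Set W) (H : Set W)) := Quotient.finite _
  have hqsurj : Function.Surjective fun i => q (w i) := by
    have := Fintype.ofFinite (DoubleCoset.Quotient (H : Set W) (H : Set W))
    refine ((Fintype.bijective_iff_injective_and_card _).2 ⟨hqinj, ?_⟩).2
    rw [Nat.card_eq_fintype_card] at hcard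
    rw [hcard, Fintype.card_fin]
  have hrep : ∀ a : W, ∃ i, q (w i) = q a := fun a => hqsurj (q a)
  have htV : ∀ a : W, ∃ i, V i = t a := by
    intro a
    obtain ⟨i, hi⟩ := hrep a
    exact ⟨i, by rw [← hw, hqt _ _ hi]⟩
  -- biinvariant elements are functions of `t`
  have hbi : ∀ a : MonoidAlgebra (ZMod 2) W,
      (∀ u ∈ H, ∀ y, a.coeff (u * y) = a.coeff y) → (∀ u ∈ H, ∀ y, a.coeff (y * u) = a.coeff y) →
      ∀ y i, t y = V i → a.coeff y = a.coeff (w i) := by
    intro a ha1 ha2 y i hy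
    obtain ⟨j, hj⟩ := hrep y
    have h1 : i = j := hV (by rw [← hy, ← hw j]; exact (hqt _ _ hj).symm)
    subst h1
    obtain ⟨u, hu, u', hu', h2⟩ := DoubleCoset.rel_iff.1 (Quotient.exact hj)
    rw [h2, ha2 _ hu', ha1 _ hu]
  -- the sum over the list
  have hsum : ∀ F G : Fin 5 → ZMod 2, ∀ i, ∀ (f g : ℕ → Fin 5),
      (∀ n ∈ L, V (f n) = vl α₀ n) → (∀ n ∈ L, V (g n) = vl (x i) n) →
      ∑ n ∈ L.toFinset, G (f n) * F (g n) = step P F G i := by
    intro F G i f g hf hg
    have h1 : ∑ n ∈ L.toFinset, G (f n) * F (g n) =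
        ∑ a, ∑ b, ∑ n ∈ L.toFinset with (f n = a ∧ g n = b), G a * F b := by
      rw [← Finset.sum_fiberwise_of_maps_to (s := L.toFinset) (t := Finset.univ)
        (g := f) (fun _ _ => Finset.mem_univ _)]
      refine Finset.sum_congr rfl fun a _ => ?_
      rw [← Finset.sum_fiberwise_of_maps_to (s := L.toFinset.filter fun n => f n = a)
        (t := Finset.univ) (g := g) (fun _ _ => Finset.mem_univ _)]
      refine Finset.sum_congr rfl fun b _ => ?_
      rw [Finset.filter_filter]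
      refine Finset.sum_congr rfl fun n hn => ?_
      obtain ⟨-, h2, h3⟩ := Finset.mem_filter.1 hn
      rw [h2, h3]
    rw [h1]
    unfold step
    refine Finset.sum_congr rfl fun a _ => Finset.sum_congr rfl fun b _ => ?_
    rw [Finset.sum_const, nsmul_eq_mul, mul_assoc]
    congr 1
    rw [← hP]
    congr 1
    rw [List.countP_eq_length_filter, ← List.toFinset_card_of_nodup (hnd.filter _),
      List.toFinset_filter]
    congr 1
    refine Finset.filter_congr fun n hn => ?_
    have hn' : n ∈ L := List.mem_toFinset.1 hn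
    rw [← hf n hn', ← hg n hn', decide_eq_true_eq]
    exact ⟨fun h => ⟨by rw [h.1], by rw [h.2]⟩, fun h => ⟨hV h.1, hV h.2⟩⟩
  intro z hz haug
  have hzm : ∀ (m : ℕ) (r : MonoidAlgebra (ZMod 2) W), z ^ m * r = r * z ^ m := fun m r =>
    ((show Commute z r from hz r).pow_left m).eq
  have hb1 : ∀ (m : ℕ), ∀ u ∈ H, ∀ y, (z ^ m * xsum H).coeff (u * y) = (z ^ m * xsum H).coeff y := by
    intro m u hu y
    have h1 : MonoidAlgebra.single u⁻¹ 1 * (z ^ m * xsum H) = z ^ m * xsum H := by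
      rw [← mul_assoc, ← hzm, mul_assoc, single_mul_xsum H (inv_mem hu)]
    conv_rhs => rw [← h1]
    rw [MonoidAlgebra.coeff_single_mul_apply, one_mul, inv_inv]
  have hb2 : ∀ (m : ℕ), ∀ u ∈ H, ∀ y, (z ^ m * xsum H).coeff (y * u) = (z ^ m * xsum H).coeff y := by
    intro m u hu y
    have h1 : (z ^ m * xsum H) * MonoidAlgebra.single u⁻¹ 1 = z ^ m * xsum H := by
      rw [mul_assoc, xsum_mul_single H (inv_mem hu)]
    conv_rhs => rw [← h1]
    rw [MonoidAlgebra.coeff_mul_single_apply, mul_one, inv_inv]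
  -- uniqueness of the list element
  have huniq : ∀ y : W, ∃ n ∈ L, mv cs h y c₀ = (fun i : Fin l => dc n i) ∧
      ∀ m ∈ L, (y * (v m)⁻¹ ∈ H ↔ m = n) := by
    intro y
    obtain ⟨n, hn, h1⟩ := (horb _).1 ⟨y, rfl⟩
    refine ⟨n, hn, h1.symm, fun m hm => ?_⟩
    have h2 : y * (v m)⁻¹ ∈ H ↔ mv cs h y c₀ = mv cs h (v m) c₀ := by
      rw [hH, mem_WJ_iff cs h (c := fun i : Fin l => dc n₀ i) hdom]
      show mv cs h (y * (v m)⁻¹) c₀ = c₀ ↔ _
      rw [mv_mul]
      constructor
      · intro h3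
        have h4 := mv_inv_eq cs h h3
        rw [inv_inv] at h4
        exact h4.symm
      · intro h3
        rw [h3, ← mv_mul, mul_inv_cancel, mv_one]
    rw [h2, hv m hm]
    have h1' : mv cs h y c₀ = fun i : Fin l => dc n i := h1.symm
    rw [h1']
    constructor
    · intro h3
      exact hinj m hm n hn fun i => (congrFun h3 i).symm
    · rintro rfl
      rfl
  -- decomposition of a left invariant element
  have hdec : ∀ a : MonoidAlgebra (ZMod 2) W, (∀ u ∈ H, ∀ y, a.coeff (u * y) = a.coeff y) →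
      a = ∑ n ∈ L.toFinset, a.coeff (v n) • (xsum H * MonoidAlgebra.single (v n) 1) := by
    intro a ha
    apply MonoidAlgebra.coeff_injective
    ext y
    rw [MonoidAlgebra.coeff_sum, Finsupp.coe_finsetSum, Finset.sum_apply]
    obtain ⟨n, hn, -, h2⟩ := huniq y
    have h3 : ∀ m ∈ L.toFinset, (a.coeff (v m) • (xsum H * MonoidAlgebra.single (v m) 1)).coeff y =
        if m = n then a.coeff (v m) else 0 := by
      intro m hm
      rw [MonoidAlgebra.coeff_smul_apply, MonoidAlgebra.coeff_mul_single_apply, mul_one,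
        coeff_xsum, smul_eq_mul]
      simp only [h2 m (List.mem_toFinset.1 hm)]
      split_ifs <;> simp
    rw [Finset.sum_congr rfl h3, Finset.sum_ite_eq', if_pos (List.mem_toFinset.2 hn)]
    have h4 := (h2 n hn).2 rfl
    have h5 := ha _ h4 (v n)
    rw [inv_mul_cancel_right] at h5
    exact h5
  -- the coefficient functions
  let F : ℕ → Fin 5 → ZMod 2 := fun m i => (z ^ m * xsum H).coeff (w i)
  have hF : ∀ m y i, t y = V i → (z ^ m * xsum H).coeff y = F m i :=
    fun m y i hy => hbi _ (hb1 m) (hb2 m) y i hy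
  choose iv hiv using htV
  have hrec : ∀ m, F (m + 1) = step P (F 1) (F m) := by
    intro m
    funext i
    have h1 := hdec _ (hb1 m)
    have h2 : z ^ (m + 1) * xsum H = ∑ n ∈ L.toFinset, (z ^ m * xsum H).coeff (v n) •
        ((z ^ 1 * xsum H) * MonoidAlgebra.single (v n) 1) := by
      rw [pow_succ', mul_assoc]
      conv_lhs => rw [h1]
      rw [Finset.mul_sum]
      refine Finset.sum_congr rfl fun n _ => ?_
      rw [mul_smul_comm, pow_one, mul_assoc]
    show (z ^ (m + 1) * xsum H).coeff (w i) = _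
    rw [h2, MonoidAlgebra.coeff_sum, Finsupp.coe_finsetSum, Finset.sum_apply]
    rw [← hsum (F 1) (F m) i (fun n => iv (v n)) (fun n => iv (w i * (v n)⁻¹))
      (fun n hn => by rw [hiv, htv n hn]) ?_]
    · refine Finset.sum_congr rfl fun n hn => ?_
      rw [MonoidAlgebra.coeff_smul_apply, MonoidAlgebra.coeff_mul_single_apply, mul_one,
        smul_eq_mul, hF m (v n) (iv (v n)) (hiv _).symm,
        hF 1 (w i * (v n)⁻¹) (iv (w i * (v n)⁻¹)) (hiv _).symm]
    · intro n hn
      rw [hiv]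
      have h3 : t (w i * (v n)⁻¹) = t (v n * (w i)⁻¹) := by
        have h4 := tt_inv h cs n₀ α₀ hA hα (v n * (w i)⁻¹)
        rw [mul_inv_rev, inv_inv] at h4
        exact h4
      rw [h3]
      show tt h cs n₀ α₀ (v n * (w i)⁻¹) = _
      rw [tt_eq_mv]
      show fn (mv cs h (v n * (w i)⁻¹) c₀) α₀ = _
      rw [mv_mul, hv n hn, fn_mv, hwx]
      rfl
  have hS1 : ∑ a, S a * F 1 a = 0 := by
    have h1 : ∑ n ∈ L.toFinset, F 1 (iv (v n)) = ∑ a, S a * F 1 a := by
      rw [← Finset.sum_fiberwise_of_maps_to (s := L.toFinset) (t := Finset.univ)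
        (g := fun n => iv (v n)) (fun _ _ => Finset.mem_univ _)]
      refine Finset.sum_congr rfl fun a _ => ?_
      rw [Finset.sum_congr rfl (g := fun _ => F 1 a) (fun n hn => by
        rw [(Finset.mem_filter.1 hn).2]), Finset.sum_const, nsmul_eq_mul]
      congr 1
      rw [← hS]
      congr 1
      rw [List.countP_eq_length_filter, ← List.toFinset_card_of_nodup (hnd.filter _),
        List.toFinset_filter]
      congr 1
      refine Finset.filter_congr fun n hn => ?_
      have hn' : n ∈ L := List.mem_toFinset.1 hn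
      rw [decide_eq_true_eq, ← htv n hn', ← hiv (v n)]
      exact ⟨fun h => by rw [h], fun h => hV h⟩
    rw [← h1]
    have h2 : ∑ n ∈ L.toFinset, F 1 (iv (v n)) = ∑ n ∈ L.toFinset, (z ^ 1 * xsum H).coeff (v n) := by
      refine Finset.sum_congr rfl fun n _ => ?_
      rw [hF 1 (v n) (iv (v n)) (hiv _).symm]
    rw [h2, ← haug, aug_eq]
    have h3 : ∀ n, (z ^ 1 * xsum H).coeff (v n) =
        ∑ y : W, if y * (v n)⁻¹ ∈ H then z.coeff y else 0 := by
      intro n
      rw [hzm, pow_one, coeff_xsum_mul]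
      refine Fintype.sum_equiv ((Equiv.inv W).trans (Equiv.mulRight (v n))) _ _ fun u => ?_
      simp only [Equiv.trans_apply, Equiv.inv_apply, Equiv.coe_mulRight, mul_inv_cancel_right,
        inv_mem_iff]
    rw [Finset.sum_congr rfl fun n _ => h3 n, Finset.sum_comm]
    refine Finset.sum_congr rfl fun y _ => ?_
    obtain ⟨n, hn, -, h4⟩ := huniq y
    rw [Finset.sum_congr rfl (g := fun m => if m = n then z.coeff y else 0) (fun m hm => by
      simp only [h4 m (List.mem_toFinset.1 hm)]), Finset.sum_ite_eq',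
      if_pos (List.mem_toFinset.2 hn)]
  refine ⟨3, ?_⟩
  have hF3 : F 3 = 0 := by
    rw [hrec, hrec 1]
    exact hnil (F 1) hS1
  apply MonoidAlgebra.coeff_injective
  ext y
  rw [hF 3 y (iv y) (hiv y).symm, hF3]
  rfl

end main

/-- the sum over an initial segment -/
theorem sum_fin_eq (l : ℕ) (f : ℕ → ℤ) : ∑ j : Fin l, f j = ((List.range l).map f).sum := by
  rw [Fin.sum_univ_eq_sum_range f l]
  rfl

/-- the value of a code on an encoded root -/
def vlL (l : ℕ) (x : List ℤ) (n : ℕ) : ℤ := ((List.range l).map fun j => x.getD j 0 * dc n j).sum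

theorem vl_eq_vlL {l : ℕ} (x : List ℤ) (n : ℕ) :
    vl (fun j : Fin l => x.getD j 0) n = vlL l x n := sum_fin_eq l fun j => x.getD j 0 * dc n j

/-- a table of bits -/
def tbl (tb : ℕ) (i a b : Fin 5) : ZMod 2 := if tb.testBit (25 * i + 5 * a + b) then 1 else 0

/-- the nilpotency check -/
theorem nil_of_bits {P : Fin 5 → Fin 5 → Fin 5 → ZMod 2} {S : Fin 5 → ZMod 2}
    (hb : ∀ f0 f1 f2 f3 f4 : ZMod 2, ∑ a, S a * ![f0, f1, f2, f3, f4] a = 0 →
      ∀ i, step P ![f0, f1, f2, f3, f4] (step P ![f0, f1, f2, f3, f4] ![f0, f1, f2, f3, f4]) i = 0)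
    (F : Fin 5 → ZMod 2) (hF : ∑ a, S a * F a = 0) : step P F (step P F F) = 0 := by
  have h1 : F = ![F 0, F 1, F 2, F 3, F 4] := by
    funext i
    fin_cases i <;> rfl
  have h2 := hb (F 0) (F 1) (F 2) (F 3) (F 4)
  rw [← h1] at h2
  funext i
  exact h2 hF i

/-- injectivity by an inverse matrix -/
theorem inj_of_inverse {l : ℕ} {A : Fin l → Fin l → ℤ} (Bm : Fin l → Fin l → ℤ) (d : ℤ)
    (hd : d ≠ 0) (hB : ∀ i k, ∑ j, Bm i j * A j k = if i = k then d else 0)
    (y : Fin l → ℤ) (hy : ∀ j, pairing A j y = 0) : y = 0 := by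
  funext i
  have h1 : ∑ j, Bm i j * pairing A j y = 0 :=
    Finset.sum_eq_zero fun j _ => by rw [hy, mul_zero]
  have h2 : ∑ j, Bm i j * pairing A j y = d * y i := by
    unfold pairing
    simp only [Finset.mul_sum]
    rw [Finset.sum_comm]
    have h3 : ∀ k, ∑ j, Bm i j * (A j k * y k) = (if i = k then d else 0) * y k := by
      intro k
      rw [← hB, Finset.sum_mul]
      exact Finset.sum_congr rfl fun j _ => by ring
    rw [Finset.sum_congr rfl fun k _ => h3 k]
    simp
  rw [h2] at h1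
  exact (mul_eq_zero.1 h1).resolve_left hd

theorem star_list {l : ℕ} {M : CoxeterMatrix (Fin l)} {A : Fin l → Fin l → ℤ}
    (h : IsCartan M A) (hA : ∀ i j, A i j = A j i) (L : List ℕ) (n₀ : ℕ) (a : Fin l → ℤ)
    (v : List ℤ)
    (h0 : n₀ ∈ L) (hdom : ∀ i : Fin l, 0 ≤ dc n₀ i)
    (h1 : ∀ n ∈ L, ∀ i : Fin l, nx (a i) n i ∈ L)
    (h2 : ∀ n ∈ L, ∀ i j : Fin l, dc (nx (a i) n i) j = dc n j - A i j * dc n i)
    (h3 : ∀ n ∈ L, n = n₀ ∨ ∃ i : Fin l, rkL v (nx (a i) n i) < rkL v n)
    (h4 : ∀ n ∈ L, (n : ℤ) = en l n) (h5 : L.Nodup)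
    {W : Type*} [Group W] [Fintype W] (cs : CoxeterSystem M W)
    (hcard : Nat.card (DoubleCoset.Quotient (WJ cs {i : Fin l | dc n₀ i = 0} : Set W)
        (WJ cs {i : Fin l | dc n₀ i = 0} : Set W)) = 5)
    (al : List ℤ) (xl : Fin 5 → List ℤ) (nk : Fin 5 → ℕ) (hnk : ∀ i, nk i ∈ L)
    (hα : ∀ j : Fin l, pairing A j (fun j => al.getD j 0) = dc n₀ j)
    (hx : ∀ (i : Fin 5) (j : Fin l), pairing A j (fun j => (xl i).getD j 0) = dc (nk i) j)
    (V : Fin 5 → ℤ) (hV : Function.Injective V)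
    (hval : ∀ i, vlL l al (nk i) = V i)
    (hAinj : ∀ y : Fin l → ℤ, (∀ j, pairing A j y = 0) → y = 0)
    (T : Fin 5 → List (ℤ × ℤ)) (hT : ∀ i, L.map (fun n => (vlL l al n, vlL l (xl i) n)) = T i)
    (P : Fin 5 → Fin 5 → Fin 5 → ZMod 2)
    (hP : ∀ i a b, (((T i).countP fun p => p = (V a, V b) : ℕ) : ZMod 2) = P i a b)
    (S : Fin 5 → ZMod 2) (hS : ∀ a, (((T 0).countP fun p => p.1 = V a : ℕ) : ZMod 2) = S a)
    (hnil : ∀ F : Fin 5 → ZMod 2, ∑ a, S a * F a = 0 → step P F (step P F F) = 0) :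
    Star (WJ cs {i : Fin l | dc n₀ i = 0}) := by
  have hinj : ∀ n ∈ L, ∀ m ∈ L, (∀ i : Fin l, dc n i = dc m i) → n = m := by
    intro n hn m hm hh
    have e1 : en l n = en l m := by
      unfold en
      congr 1
      refine List.map_congr_left fun j hj => ?_
      have := hh ⟨j, List.mem_range.1 hj⟩
      simp only at this
      rw [this]
    rw [← h4 n hn, ← h4 m hm] at e1
    exact_mod_cast e1
  have hs' : ∀ n ∈ L, ∀ i : Fin l, (fun j : Fin l => dc (nx (a i) n i) j) =
      mv cs h (cs.simple i) (fun j : Fin l => dc n j) := by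
    intro n hn i
    rw [mv_simple]
    funext j
    exact h2 n hn i j
  refine star_core h cs n₀ (fun j => al.getD j 0) hA hα hdom L ?_ hinj h5 hcard
    (fun i j => (xl i).getD j 0) nk hnk hx V hV (fun i => (vl_eq_vlL al (nk i)).trans (hval i))
    hAinj P ?_ S ?_ hnil
  · intro x
    constructor
    · rintro ⟨w, rfl⟩
      induction w using cs.simple_induction_right with
      | one => exact ⟨n₀, h0, by rw [mv_one]⟩
      | mul_simple_right w i ih =>
        obtain ⟨n, hn, hy⟩ := ih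
        exact ⟨_, h1 n hn i, by rw [hs' n hn, hy, ← mv_mul]⟩
    · rintro ⟨n, hn, rfl⟩
      induction hr : rkL v n using Nat.strong_induction_on generalizing n with
      | _ r ih =>
      rcases h3 n hn with rfl | ⟨i, hi⟩
      · exact ⟨1, by rw [mv_one]⟩
      · obtain ⟨w, hw⟩ := ih _ (hr ▸ hi) _ (h1 n hn i) rfl
        refine ⟨w * cs.simple i, ?_⟩
        rw [mv_mul, hw, hs' n hn, ← mv_mul, cs.simple_mul_simple_self, mv_one]
  · intro i a b
    rw [← hP, ← hT, List.countP_map]
    congr 1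
    refine List.countP_congr fun n _ => ?_
    simp only [Function.comp_apply, vl_eq_vlL, Prod.mk.injEq]
  · intro a
    rw [← hS, ← hT, List.countP_map]
    congr 1
    refine List.countP_congr fun n _ => ?_
    simp only [Function.comp_apply, vl_eq_vlL]

end Cfsg.Agent.H694.EB
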