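import Cfsg.Agent.H684.EB.Base
import Cfsg.Agent.H694.BnPar
import Cfsg.Agent.H694.CoxCount

/-!
# TEAM EB, groups of Lie type of characteristic two and rank at least three: interface

* `DZ S`: every character outside the principal 2-block has defect zero;
* `Reg cs K`: the elements `w` of the Coxeter group such that `w α` and `w⁻¹ α` are positive roots outside
  `α_K` for all the simple roots `α = α_i`, `i ∈ K` (the minimal representatives of the double cosets
  `W_K w W_K` with `W_K ∩ w W_K w⁻¹ = 1`).
-/

set_option autoImplicit false

namespace Cfsg.Agent.H694.EB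

open Cfsg Cfsg.Agent.ChevalleyStructure.CoxeterGeom

universe u

/-- Every character outside the principal 2-block has defect zero. -/
def DZ (S : Type u) [Group S] : Prop :=
  ∀ [Fintype S] (M : Ideal AlgInt), IsPModular 2 M → ∀ χ : IrrCharacter S, χ ∉ principalBlock M S →
    (∀ g : S, Even (orderOf g) → (χ : S → ℂ) g = 0) ∧
      (Nat.card S).factorization 2 = (charDegree (χ : S → ℂ)).factorization 2

/-- The elements `w` such that, for all `i ∈ K`, the roots `w α_i` and `w⁻¹ α_i` are positive and different from
all the `α_j`, `j ∈ K`. -/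
def Reg {I W : Type*} [Group W] {M : CoxeterMatrix I} (cs : CoxeterSystem M W) (K : Set I) (w : W) : Prop :=
  ∀ i ∈ K, (cs.length w < cs.length (w * cs.simple i) ∧ ∀ j ∈ K, w * cs.simple i ≠ cs.simple j * w) ∧
    (cs.length w < cs.length (cs.simple i * w) ∧ ∀ j ∈ K, cs.simple i * w ≠ w * cs.simple j)

end Cfsg.Agent.H694.EB
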