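import Cfsg.Agent.H694.EB.TwoP
import Cfsg.Agent.H694.DTypes
import Cfsg.Agent.H839.EB.CountGen
import Cfsg.Agent.H839.EB.CountLow
import Cfsg.Agent.H177.EB.CountE

/-!
# Characteristic two: types `B_n`, `D_n`, `E₇`, `E₈`
-/

set_option autoImplicit false

namespace Cfsg.Agent.H694.EB

open Cfsg Cfsg.Agent.H694 Cfsg.Agent.H684.EB Cfsg.Agent.Nodes
open Cfsg.Agent.Omega.ML.Ex.Typ (HasSplitT HasRGDT)

universe u

variable {K : Type u} [Group K] [Finite K]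

/-- type `B_n`, `n ≥ 3` -/
theorem evenJ_two_B {n : ℕ} (hn : 3 ≤ n) (hK : HasSplitT 2 (CoxeterMatrix.B n) K) (hdz : DZ K) :
    EvenJ K := by
  rcases Nat.lt_or_ge n 4 with h | h
  · obtain rfl : n = 3 := by omega
    refine evenJ_of_splitT hK hdz {i | (i : ℕ) ≠ 2} ⟨0, by
      show ((0 : Fin 3) : ℕ) ≠ 2
      decide⟩ (fun σ hσ => stable_B hn _ σ hσ) ?_
    intro W _ _ cs
    exact H839.EB.even_B3 cs
  · refine evenJ_of_splitT hK hdz {i | (i : ℕ) ≠ 1} ⟨⟨0, by omega⟩, by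
      show (0 : ℕ) ≠ 1
      decide⟩ (fun σ hσ => stable_B hn _ σ hσ) ?_
    intro W _ _ cs
    exact H839.EB.even_B h cs

/-- type `D_{n+2}`, `n ≥ 3` -/
theorem evenJ_two_D {n : ℕ} (hn : 3 ≤ n) (hK : HasSplitT 2 (TypeD.M n) K) (hdz : DZ K) :
    EvenJ K := by
  refine evenJ_of_splitT hK hdz {i | (i : ℕ) ≠ 1} ⟨⟨0, by omega⟩, by
      show (0 : ℕ) ≠ 1
      decide⟩ ?_ ?_
  · intro σ hσ
    have h1 : {i : Fin (n + 2) | (i : ℕ) ≠ 1} = {i : Fin (n + 2) | (i : ℕ) = 1}ᶜ := rfl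
    rw [h1]
    refine image_compl_eq σ _ fun i hi => ?_
    have hi' : (i : ℕ) = 1 := hi
    rw [fix_D hn σ hσ i (by omega)]
    exact hi
  · intro W _ _ cs
    exact H839.EB.even_D hn cs

/-- type `D₄` -/
theorem evenJ_two_D4 (hK : HasSplitT 2 (TypeD.M 2) K) (hdz : DZ K) : EvenJ K := by
  refine evenJ_of_splitT hK hdz {i | (i : ℕ) = 1} ⟨1, rfl⟩ ?_ ?_
  · intro σ hσ
    have h1 : {i : Fin (2 + 2) | (i : ℕ) = 1} = {i : Fin (2 + 2) | i ≠ 1}ᶜ := by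
      ext i
      show (i : ℕ) = 1 ↔ ¬ (i ≠ 1)
      revert i
      decide
    rw [h1]
    refine image_compl_eq σ _ fun i hi => ?_
    have hi' : i ≠ 1 := hi
    show σ i ≠ 1
    intro h3
    apply hi'
    have h2 := wk_inv σ hσ 1 i
    rw [h3] at h2
    revert h2
    clear * - 
    show wk (TypeD.M 2) 1 1 = wk (TypeD.M 2) 1 i → i = 1
    revert i
    decide
  · intro W _ _ cs
    exact H839.EB.even_D4 cs

/-- type `E₇` -/
theorem evenJ_two_E7 (hK : HasSplitT 2 CoxeterMatrix.E₇ K) (hdz : DZ K) : EvenJ K := by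
  refine evenJ_of_splitT hK hdz {i | (i : ℕ) ≠ 6} ⟨0, by
      show ((0 : Fin 7) : ℕ) ≠ 6
      decide⟩ ?_ ?_
  · intro σ hσ
    have h1 : {i : Fin 7 | (i : ℕ) ≠ 6} = {i : Fin 7 | i = 6}ᶜ := by
      ext i
      show (i : ℕ) ≠ 6 ↔ ¬ (i = 6)
      revert i
      decide
    rw [h1]
    refine image_compl_eq σ _ fun i hi => ?_
    have hi' : i = 6 := hi
    have h2 := wk_inv σ hσ 1 i
    have h3 := wk_inv σ hσ 2 i
    have h4 := wk_inv σ hσ 3 i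
    subst hi'
    revert h2 h3 h4
    generalize σ 6 = x
    show wk CoxeterMatrix.E₇ 1 x = wk CoxeterMatrix.E₇ 1 6 →
      wk CoxeterMatrix.E₇ 2 x = wk CoxeterMatrix.E₇ 2 6 →
      wk CoxeterMatrix.E₇ 3 x = wk CoxeterMatrix.E₇ 3 6 → x = 6
    revert x
    decide +kernel
  · intro W _ _ cs
    exact H177.EB.even_E7 cs

/-- type `E₈` -/
theorem evenJ_two_E8 (hK : HasSplitT 2 CoxeterMatrix.E₈ K) (hdz : DZ K) : EvenJ K := by
  refine evenJ_of_splitT hK hdz {i | (i : ℕ) ≠ 0} ⟨1, by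
      show ((1 : Fin 8) : ℕ) ≠ 0
      decide⟩ ?_ ?_
  · intro σ hσ
    have h1 : {i : Fin 8 | (i : ℕ) ≠ 0} = {i : Fin 8 | i = 0}ᶜ := by
      ext i
      show (i : ℕ) ≠ 0 ↔ ¬ (i = 0)
      revert i
      decide
    rw [h1]
    refine image_compl_eq σ _ fun i hi => ?_
    have hi' : i = 0 := hi
    have h2 := wk_inv σ hσ 1 i
    have h3 := wk_inv σ hσ 2 i
    have h4 := wk_inv σ hσ 3 i
    subst hi'
    revert h2 h3 h4
    generalize σ 0 = x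
    show wk CoxeterMatrix.E₈ 1 x = wk CoxeterMatrix.E₈ 1 0 →
      wk CoxeterMatrix.E₈ 2 x = wk CoxeterMatrix.E₈ 2 0 →
      wk CoxeterMatrix.E₈ 3 x = wk CoxeterMatrix.E₈ 3 0 → x = 0
    revert x
    decide +kernel
  · intro W _ _ cs
    exact H177.EB.even_E8 cs

end Cfsg.Agent.H694.EB
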