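import Cfsg.Agent.H694.EB.Two
import Cfsg.Agent.H694.EB.Wrap
import Cfsg.Agent.H610.EB.RPhi

/-!
# Characteristic two: parabolic permutation characters

* `exists_fix`: in a split (B,N)-pair of characteristic two, every point of `K / P_J`, `J` not empty,
  is fixed by a nontrivial element of `U`.
* `RPhi.of_set`: the odd extension property from an invariant set of subgroups.
-/

set_option autoImplicit false
set_option linter.unusedSectionVars false
set_option linter.style.haveILetI false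

namespace Cfsg.Agent.H694.EB

open Cfsg Cfsg.Agent.H694 Cfsg.Agent.H610.EB Cfsg.Agent.H684.EB
open scoped ComplexConjugate
open Cfsg.Agent.Characters.Core
open Cfsg.Agent.OddOrderCharacters.PF9.CliffGen (resTo irr_ind)
open Cfsg.Agent.LieExceptional.BNPairCore Cfsg.Agent.Tits.Core
  Cfsg.Agent.Tits.OfBN Cfsg.Agent.Schreier.BNSch Cfsg.Agent.Tits.OppRes Cfsg.Agent.FixBN
  Cfsg.Agent.FixBN.TwOfBN
  Cfsg.Agent.OddHalf.Table.AutBldg
open Cfsg.Agent.Omega.ML.Ex.Typ (HasSplitT HasRGDT)

universe u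

/-- A conjugate of an element of `B` outside `B`. -/
theorem exists_conj_not_mem {K : Type*} [Group K] (P : Cfsg.BNPair K) {s : K} (hs : s ∈ P.S) :
    ∃ b ∈ P.B, s⁻¹ * b * s ∉ P.B := by
  by_contra h
  push Not at h
  apply P.conj_ne s hs
  have h2 := P.sq_mem s hs
  ext x
  constructor
  · rintro ⟨b, hb, rfl⟩
    have h3 : s * b * s = s * s * (s⁻¹ * b * s) := by group
    show s * b * s ∈ P.B
    rw [h3]
    exact mul_mem h2 (h b hb)
  · intro hx
    refine ⟨s⁻¹ * x * s⁻¹, ?_, by
      show s * (s⁻¹ * x * s⁻¹) * s = x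
      group⟩
    have h3 : s⁻¹ * x * s⁻¹ = s⁻¹ * x * s * (s * s)⁻¹ := by group
    show s⁻¹ * x * s⁻¹ ∈ P.B
    rw [h3]
    exact mul_mem (h x hx) (inv_mem h2)

section

variable {K : Type*} [Group K] [Finite K] {P : Cfsg.BNPair K}
variable [hN : ((P.B ⊓ P.N).subgroupOf P.N).Normal]
variable {I : Type*} [Finite I] {M : CoxeterMatrix I} (e : I ≃ P.S) (cs : CoxeterSystem M (WP P))
  (hcs : ∀ i, cs.simple i = QuotientGroup.mk (⟨(e i : K), P.subset (e i).2⟩ : P.N))

omit [Finite K] [Finite I] in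
theorem mem_WJ_single {j : I} {w : WP P} (hw : w ∈ WJ cs {j}) : w = 1 ∨ w = cs.simple j := by
  have h1 : w ∈ Subgroup.closure {cs.simple j} := by
    have h2 : WJ cs {j} = Subgroup.closure {cs.simple j} := by
      rw [WJ]
      congr 1
      ext x
      simp
    rwa [h2] at hw
  rw [Subgroup.mem_closure_singleton] at h1
  obtain ⟨n, rfl⟩ := h1
  rcases Int.even_or_odd' n with ⟨k, rfl | rfl⟩
  · left
    rw [zpow_mul, zpow_ofNat, pow_two, cs.simple_mul_simple_self, one_zpow]
  · right
    rw [zpow_add, zpow_mul, zpow_ofNat, pow_two, cs.simple_mul_simple_self, one_zpow, one_mul,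
      zpow_one]

omit [Finite K] in
/-- Two chambers of the same type in a residue. -/
theorem fix_of_wt {p : ℕ} [Fact p.Prime] {U : Subgroup K} (S : Split P p U) {J : Set I} {g a b : K}
    (ha : a ∈ PJ P e J) (hb : b ∈ PJ P e J) (hne : a⁻¹ * b ∉ P.B) (h : wt P (g * a) = wt P (g * b)) :
    ∃ u ∈ U, u ≠ 1 ∧ u • (QuotientGroup.mk g : K ⧸ PJ P e J) = QuotientGroup.mk g := by
  obtain ⟨u, hu, h4⟩ := OfBN.trans S (x := (QuotientGroup.mk 1 : K ⧸ P.B))
    (y := QuotientGroup.mk (g * a)) (z := QuotientGroup.mk (g * b)) (by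
      rw [dist_mk, dist_mk, inv_one, one_mul, one_mul, h])
  have hu' : u ∈ U := by
    have := (OfBN.mem_UU S).1 hu
    simpa using this
  have h5 : (u * (g * a))⁻¹ * (g * b) ∈ P.B := QuotientGroup.eq.1 h4
  refine ⟨u, hu', ?_, ?_⟩
  · rintro rfl
    apply hne
    have h6 : a⁻¹ * b = (1 * (g * a))⁻¹ * (g * b) := by group
    rw [h6]
    exact h5
  · show (QuotientGroup.mk (u * g) : K ⧸ PJ P e J) = QuotientGroup.mk g
    rw [QuotientGroup.eq]
    have h6 : (u * g)⁻¹ * g = a * ((u * (g * a))⁻¹ * (g * b)) * b⁻¹ := by group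
    rw [h6]
    exact mul_mem (mul_mem ha (B_le_PJ e J h5)) (inv_mem hb)

include hcs in
/-- **Every point of `K / P_J` is fixed by a nontrivial element of `U`.** -/
theorem exists_fix {p : ℕ} [Fact p.Prime] {U : Subgroup K} (S : Split P p U) {J : Set I}
    (hJ : J.Nonempty) (x : K ⧸ PJ P e J) : ∃ u ∈ U, u ≠ 1 ∧ u • x = x := by
  have hC : Cox cs := inferInstance
  obtain ⟨j, hj⟩ := hJ
  obtain ⟨g, rfl⟩ := QuotientGroup.mk_surjective x
  obtain ⟨b, hb, hbs⟩ := exists_conj_not_mem P (e j).2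
  set s : K := (e j : K) with hs
  have hsub : PJ P e {j} ≤ PJ P e J := by
    intro y hy
    rw [mem_PJ e cs hcs] at hy ⊢
    exact Subgroup.closure_mono (by
      rintro _ ⟨i, hi, rfl⟩
      rw [Set.mem_singleton_iff] at hi
      subst hi
      exact ⟨i, hj, rfl⟩) hy
  have hsj : s ∈ PJ P e {j} := by
    unfold PJ Cfsg.BNPair.parabolic
    exact (le_sup_right : Subgroup.closure _ ≤ _) (Subgroup.subset_closure ⟨j, rfl, rfl⟩)
  have hbj : b ∈ PJ P e {j} := B_le_PJ e _ hb
  have h1 := mem_WJ_single cs (wt_mul_mem e cs hcs (g := g) hsj)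
  have h2 := mem_WJ_single cs (wt_mul_mem e cs hcs (g := g) (mul_mem hbj hsj))
  have hs1 : s ∉ P.B := by
    intro h
    exact hbs (mul_mem (mul_mem (inv_mem h) hb) h)
  rcases h1 with h1 | h1
  · refine fix_of_wt e S (a := 1) (b := s) (one_mem _) (hsub hsj) (by simpa using hs1) ?_
    rw [mul_one]
    exact (inv_mul_eq_one.1 h1)
  rcases h2 with h2 | h2
  · refine fix_of_wt e S (a := 1) (b := b * s) (one_mem _) (hsub (mul_mem hbj hsj)) ?_ ?_
    · rw [inv_one, one_mul]
      intro h
      exact hs1 (by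
        have h3 := mul_mem (inv_mem hb) h
        rwa [inv_mul_cancel_left] at h3)
    · rw [mul_one]
      exact (inv_mul_eq_one.1 h2)
  · refine fix_of_wt e S (a := s) (b := b * s) (hsub hsj) (hsub (mul_mem hbj hsj)) ?_ ?_
    · rw [← mul_assoc]
      exact hbs
    · have h3 := h1.trans h2.symm
      exact mul_left_cancel h3

variable {p : ℕ} [Fact p.Prime] {U : Subgroup K}

end

/-- Transport of `permS`. -/
theorem permS_equiv {S T : Type u} [Group S] [Group T] (e : S ≃* T) (𝒳 : Set (Subgroup S)) (s : S) :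
    permS {H : Subgroup T | H.map e.symm.toMonoidHom ∈ 𝒳} (e s) = permS 𝒳 s := by
  let f : Subgroup S ≃ Subgroup T :=
    { toFun := fun H => H.map e.toMonoidHom
      invFun := fun H => H.map e.symm.toMonoidHom
      left_inv := map_map_symm e
      right_inv := map_symm_map e }
  have hconj : ∀ (s : S) (H : Subgroup S),
      (H.map (MulAut.conj s).toMonoidHom).map e.toMonoidHom =
        (H.map e.toMonoidHom).map (MulAut.conj (e s)).toMonoidHom := by
    intro s H
    rw [Subgroup.map_map, Subgroup.map_map]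
    congr 1
    ext x
    simp
  unfold permS
  congr 1
  symm
  refine Nat.card_congr (Equiv.subtypeEquiv f fun H => ?_)
  show (H ∈ 𝒳 ∧ H.map (MulAut.conj s).toMonoidHom = H) ↔
    ((H.map e.toMonoidHom).map e.symm.toMonoidHom ∈ 𝒳 ∧
      (H.map e.toMonoidHom).map (MulAut.conj (e s)).toMonoidHom = H.map e.toMonoidHom)
  rw [map_map_symm, ← hconj]
  constructor
  · rintro ⟨h4, h5⟩
    exact ⟨h4, by rw [h5]⟩
  · rintro ⟨h4, h5⟩
    exact ⟨h4, f.injective h5⟩

/-- **The odd extension property from an invariant set of subgroups.** -/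
theorem rphi_of_set {S : Type u} [Group S] [Fintype S] {φ : S → ℂ}
    (hirr : IsIrrCharacter S φ)
    (heven : Even (charDegree φ)) (hfix : ∀ k : ℕ, IsK S k → ∀ s : S, φ (s ^ k) = φ s)
    (hinv : ∀ a : S ≃* S, (fun s => φ (a s)) = φ)
    (hmem : ∀ M : Ideal AlgInt, IsPModular 2 M →
      (⟨φ, hirr⟩ : IrrCharacter S) ∈ principalBlock M S)
    (𝒳 : Set (Subgroup S)) (hα : ∀ α : S ≃* S, ∀ H ∈ 𝒳, H.map α.toMonoidHom ∈ 𝒳)
    (hodd : Odd (mu (permS 𝒳) φ)) : RPhi S φ where
  irr := hirr
  even := heven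
  fix := hfix
  inv := hinv
  mem := hmem
  ext := by
    intro H _ _ N hN iN e hC hcyc hidx k hk
    classical
    have hX : ∀ g : H, ∀ L ∈ {L : Subgroup N | L.map e.symm.toMonoidHom ∈ 𝒳},
        cmap N g L ∈ {L : Subgroup N | L.map e.symm.toMonoidHom ∈ 𝒳} := by
      intro g L hL
      have h1 := hα ((e.trans (MulAut.conjNormal g : MulAut N)).trans e.symm) _ hL
      show (cmap N g L).map e.symm.toMonoidHom ∈ 𝒳
      convert h1 using 1
      rw [cmap, Subgroup.map_map, Subgroup.map_map]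
      congr 1
      ext x
      simp
    letI := actSet N _ hX
    haveI : Finite {L : Subgroup N | L.map e.symm.toMonoidHom ∈ 𝒳} := Subtype.finite
    refine ⟨permC H {L : Subgroup N | L.map e.symm.toMonoidHom ∈ 𝒳}, GC.of_rchar (rchar_perm _),
      fun t => ?_, ?_⟩
    · show (Nat.card (MulAction.fixedBy _ (t ^ k)) : ℂ) = _
      rw [fixedBy_pow hk]
      rfl
    · have hres : (fun s : N => permC H {L : Subgroup N | L.map e.symm.toMonoidHom ∈ 𝒳} (s : H)) =
          permS {L : Subgroup N | L.map e.symm.toMonoidHom ∈ 𝒳} := by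
        funext s
        exact permC_restrict N _ hX s
      rw [hres]
      have h3 := Cfsg.Agent.H610.EB.classInner_equiv e.toEquiv
        (permS {L : Subgroup N | L.map e.symm.toMonoidHom ∈ 𝒳}) (fun n => φ (e.symm n))
      have h4 : (fun a : S => permS {L : Subgroup N | L.map e.symm.toMonoidHom ∈ 𝒳}
          (e.toEquiv a)) = permS 𝒳 := by
        funext s
        exact permS_equiv e 𝒳 s
      have h5 : (fun a : S => (fun n => φ (e.symm n)) (e.toEquiv a)) = φ := by
        funext s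
        show φ (e.symm (e s)) = φ s
        rw [MulEquiv.symm_apply_apply]
      rw [h4, h5] at h3
      rw [mu, ← h3]
      exact hodd

end Cfsg.Agent.H694.EB
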